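import Mathlib
import Cfsg.Agent.Coprime.Sylow

/-!
# Operator groups whose point stabilisers have one Sylow subgroup
-/

set_option autoImplicit false
set_option linter.unusedSectionVars false
set_option linter.style.haveILetI false

namespace Cfsg.Lib.Palfy

open Subgroup
open scoped Pointwise

variable {H : Type*} [Group H] [Finite H] {V : Type*} [CommGroup V] [Finite V] (act : H →* MulAut V)

/-- The stabiliser of a vector. -/
def stab (v : V) : Subgroup H where
  carrier := {x | act x v = v}
  one_mem' := by simp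
  mul_mem' := fun {a b} ha hb => by
    show act (a * b) v = v
    rw [map_mul, MulAut.mul_apply, hb, ha]
  inv_mem' := fun {a} ha => by
    show act a⁻¹ v = v
    conv_lhs => rw [← ha, ← MulAut.mul_apply, ← map_mul, inv_mul_cancel, map_one]
    rfl

theorem mem_stab {v : V} {x : H} : x ∈ stab act v ↔ act x v = v := Iff.rfl

/-- The vectors fixed by a subgroup. -/
def fixed (S : Subgroup H) : Subgroup V where
  carrier := {v | ∀ x ∈ S, act x v = v}
  one_mem' := fun x _ => map_one (act x)
  mul_mem' := fun {a b} ha hb x hx => by rw [map_mul, ha x hx, hb x hx]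
  inv_mem' := fun {a} ha x hx => by rw [map_inv, ha x hx]

theorem mem_fixed {S : Subgroup H} {v : V} : v ∈ fixed act S ↔ ∀ x ∈ S, act x v = v := Iff.rfl

theorem mem_fixed_iff_le {S : Subgroup H} {v : V} : v ∈ fixed act S ↔ S ≤ stab act v := Iff.rfl

variable {r : ℕ} [hr : Fact r.Prime]

/-- Each stabiliser of a non-trivial vector has a normal Sylow `r`-subgroup of the whole group. -/
def Cells (r : ℕ) : Prop :=
  ∀ v : V, v ≠ 1 → ∃ S : Sylow r H,
    (S : Subgroup H) ≤ stab act v ∧ stab act v ≤ normalizer ((S : Subgroup H) : Set H)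

theorem eq_of_le_normalizer (S S' : Sylow r H)
    (h : (S : Subgroup H) ≤ normalizer ((S' : Subgroup H) : Set H)) : S = S' := by
  haveI : ((S' : Subgroup H).subgroupOf (normalizer ((S' : Subgroup H) : Set H))).Normal :=
    Subgroup.normal_subgroupOf_of_le_normalizer le_rfl
  haveI hn : ((S'.subtype Subgroup.le_normalizer : Sylow r ↥(normalizer ((S' : Subgroup H) : Set H))) :
      Subgroup ↥(normalizer ((S' : Subgroup H) : Set H))).Normal := by
    rw [Sylow.coe_subtype]; infer_instance
  haveI := Sylow.unique_of_normal (S'.subtype Subgroup.le_normalizer) hn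
  exact Sylow.subtype_injective (Subsingleton.elim (S.subtype h) (S'.subtype Subgroup.le_normalizer))

theorem Cells.unique (hc : Cells act r) {v : V} (hv : v ≠ 1) {S S' : Sylow r H}
    (h : (S : Subgroup H) ≤ stab act v) (h' : (S' : Subgroup H) ≤ stab act v) : S = S' := by
  obtain ⟨T, -, hT⟩ := hc v hv
  rw [eq_of_le_normalizer S T (h.trans hT), eq_of_le_normalizer S' T (h'.trans hT)]

theorem card_fixed_smul (g : H) (S : Sylow r H) :
    Nat.card (fixed act ((g • S : Sylow r H) : Subgroup H)) = Nat.card (fixed act (S : Subgroup H)) := by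
  refine (Nat.card_congr ((act g).toEquiv.subtypeEquiv fun v => ?_)).symm
  simp only [MulEquiv.toEquiv_eq_coe, EquivLike.coe_coe]
  constructor
  · rintro hv _ ⟨y, hy, rfl⟩
    show act (g * y * g⁻¹) (act g v) = act g v
    rw [← MulAut.mul_apply, ← map_mul, inv_mul_cancel_right, map_mul, MulAut.mul_apply, hv y hy]
  · intro hv y hy
    have h := hv (g * y * g⁻¹) ⟨y, hy, rfl⟩
    rw [← MulAut.mul_apply, ← map_mul, inv_mul_cancel_right, map_mul, MulAut.mul_apply] at h
    exact (act g).injective h

/-- The cells partition the non-trivial vectors. -/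
theorem Cells.card_eq (hc : Cells act r) (S : Sylow r H) :
    Nat.card (Sylow r H) * (Nat.card (fixed act (S : Subgroup H)) - 1) = Nat.card V - 1 := by
  classical
  letI := Fintype.ofFinite (Sylow r H)
  letI := Fintype.ofFinite V
  have h1 : ∀ U : Subgroup V, Nat.card {v : U // v ≠ 1} = Nat.card U - 1 := fun U => by
    letI := Fintype.ofFinite U
    rw [Nat.card_eq_fintype_card, Nat.card_eq_fintype_card, Fintype.card_subtype_compl,
      Fintype.card_subtype_eq]
  have h2 : Nat.card {v : V // v ≠ 1} = Nat.card V - 1 := by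
    rw [Nat.card_eq_fintype_card, Nat.card_eq_fintype_card, Fintype.card_subtype_compl,
      Fintype.card_subtype_eq]
  let f : (Σ T : Sylow r H, {v : fixed act (T : Subgroup H) // v ≠ 1}) → {v : V // v ≠ 1} :=
    fun x => ⟨x.2.1.1, fun h => x.2.2 (Subtype.ext h)⟩
  have hf : Function.Bijective f := by
    constructor
    · rintro ⟨T, ⟨v, hv⟩, hv1⟩ ⟨T', ⟨v', hv'⟩, hv1'⟩ h
      obtain rfl : v = v' := congrArg Subtype.val h
      obtain rfl : T = T' := hc.unique act (fun h0 => hv1 (Subtype.ext h0)) hv hv'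
      rfl
    · rintro ⟨v, hv⟩
      obtain ⟨T, hT, -⟩ := hc v hv
      exact ⟨⟨T, ⟨v, hT⟩, fun h0 => hv (congrArg Subtype.val h0)⟩, rfl⟩
  rw [← h2, ← Nat.card_congr (Equiv.ofBijective f hf), Nat.card_sigma,
    Finset.sum_congr rfl fun T _ => ?_, Finset.sum_const, Finset.card_univ, smul_eq_mul,
    Nat.card_eq_fintype_card]
  obtain ⟨g, rfl⟩ := MulAction.exists_smul_eq H S T
  rw [h1, card_fixed_smul]

theorem sylow_card_gt_one (h : ∀ S : Sylow r H, ¬ (S : Subgroup H).Normal) :
    1 < Nat.card (Sylow r H) := by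
  by_contra hle
  have : Subsingleton (Sylow r H) := by
    rw [← Finite.card_le_one_iff_subsingleton]; omega
  exact h default (Sylow.normal_of_subsingleton default)

/-- An element of prime-power order acting on an invariant subgroup. -/
theorem card_modEq_fixed {s : ℕ} [hs : Fact s.Prime] (x : H) (hx : ∃ k : ℕ, orderOf x = s ^ k)
    (U : Subgroup V) (hU : ∀ v ∈ U, act x v ∈ U) :
    Nat.card U ≡ Nat.card (U ⊓ fixed act (zpowers x) : Subgroup V) [MOD s] := by
  classical
  have hU' : ∀ (y : zpowers x) (v : U), act (y : H) (v : V) ∈ U := by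
    rintro ⟨y, hy⟩ v
    obtain ⟨n, rfl⟩ := (mem_powers_iff_mem_zpowers.2 hy)
    induction n with
    | zero => simp
    | succ n ih =>
      show act (x ^ (n + 1)) (v : V) ∈ U
      rw [pow_succ', map_mul, MulAut.mul_apply]
      exact hU _ (ih (pow_mem (mem_zpowers x) n))
  letI : MulAction (zpowers x) U :=
    { smul := fun y v => ⟨act (y : H) (v : V), hU' y v⟩
      one_smul := fun v => Subtype.ext (by
        show act ((1 : zpowers x) : H) (v : V) = v
        rw [OneMemClass.coe_one, map_one]; rfl)
      mul_smul := fun y z v => Subtype.ext (by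
        show act ((y * z : zpowers x) : H) (v : V) = act (y : H) (act (z : H) (v : V))
        rw [Subgroup.coe_mul, map_mul, MulAut.mul_apply]) }
  obtain ⟨k, hk⟩ := hx
  have hp : IsPGroup s (zpowers x) := IsPGroup.of_card ((Nat.card_zpowers x).trans hk)
  refine (hp.card_modEq_card_fixedPoints U).trans ?_
  rw [Nat.ModEq]
  refine congrArg (· % s) ?_
  refine Nat.card_congr
    { toFun := fun v => ⟨(v : U), ⟨(v : U).2, fun y hy => congrArg Subtype.val (v.2 ⟨y, hy⟩)⟩⟩
      invFun := fun v => ⟨⟨v.1, v.2.1⟩, fun y => Subtype.ext (v.2.2 y y.2)⟩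
      left_inv := fun v => rfl
      right_inv := fun v => rfl }

/-- Arithmetic of two partitions with the same number of cells. -/
theorem exponent_unique {p n l c v d : ℕ} (hp : p.Prime) (hn : 1 < n) (hnp : ¬ p ∣ n)
    (hl : 0 < l) (hv : 0 < v)
    (h1 : n * (p ^ c - 1) = p ^ l - 1) (h2 : n * (p ^ d - 1) = p ^ v - 1) : l = v := by
  have key : ∀ {l c : ℕ}, 0 < l → n * (p ^ c - 1) = p ^ l - 1 → (n - 1).factorization p = c := by
    intro l c hl h
    have hlp : 1 < p ^ l := Nat.one_lt_pow hl.ne' hp.one_lt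
    have hc0 : c ≠ 0 := by
      rintro rfl
      rw [pow_zero, Nat.sub_self, mul_zero] at h
      omega
    have hcl : c < l := by
      by_contra hle
      have h3 : p ^ l ≤ p ^ c := Nat.pow_le_pow_right hp.pos (not_lt.1 hle)
      have h4 : p ^ l - 1 < n * (p ^ c - 1) :=
        calc p ^ l - 1 < n * (p ^ l - 1) := lt_mul_left (by omega) hn
          _ ≤ _ := Nat.mul_le_mul_left _ (by omega)
      omega
    obtain ⟨e, rfl⟩ : ∃ e, l = c + (e + 1) := ⟨l - c - 1, by omega⟩
    have hc1 : 1 ≤ p ^ c := Nat.one_le_pow _ _ hp.pos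
    have hge : p ^ (e + 1) ≤ n := by
      by_contra hlt
      have h5 : n * (p ^ c - 1) + n = n * p ^ c := by rw [← Nat.mul_succ]; congr 1; omega
      have h6 : n * p ^ c + p ^ c ≤ p ^ (e + 1) * p ^ c := by
        rw [← Nat.succ_mul]; exact Nat.mul_le_mul_right _ (not_le.1 hlt)
      rw [pow_add, mul_comm (p ^ c)] at h
      have : n < p ^ c + n := by omega
      omega
    have he : n - 1 = p ^ c * (n - p ^ (e + 1)) := by
      have h5 : n * (p ^ c - 1) + n = n * p ^ c := by rw [← Nat.mul_succ]; congr 1; omega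
      have h6 : 1 ≤ p ^ (c + (e + 1)) := hlp.le
      rw [Nat.mul_sub, ← pow_add, mul_comm (p ^ c) n]
      omega
    have hne : ¬ p ∣ n - p ^ (e + 1) := fun hd => hnp (by
      have := Nat.dvd_add hd (dvd_pow_self p e.succ_ne_zero)
      rwa [Nat.sub_add_cancel hge] at this)
    have h0 : n - p ^ (e + 1) ≠ 0 := fun h0 => hne (h0 ▸ dvd_zero p)
    rw [he, Nat.factorization_mul (pow_ne_zero _ hp.pos.ne') h0, Finsupp.add_apply,
      hp.factorization_pow, Finsupp.single_eq_same, Nat.factorization_eq_zero_of_not_dvd hne, add_zero]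
  have hcd : c = d := (key hl h1).symm.trans (key hv h2)
  subst hcd
  have h3 : p ^ l - 1 = p ^ v - 1 := h1.symm.trans h2
  exact Nat.pow_right_injective hp.two_le
    (show p ^ l = p ^ v by have := Nat.one_le_pow l p hp.pos; have := Nat.one_le_pow v p hp.pos; omega)

end Cfsg.Lib.Palfy
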