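import Mathlib
import Cfsg.Agent.Blocks.Palfy.Act
import Cfsg.Agent.Blocks.CommSylow.Basic
import Cfsg.Agent.Components.Misc.Zsigmondy
import Cfsg.Agent.S4445
import Cfsg.Agent.Coprime.SolvableBasics

/-!
# Two primes cannot both split the vectors into cells
-/

set_option autoImplicit false
set_option linter.unusedSectionVars false
set_option linter.style.haveILetI false

namespace Cfsg.Lib.Palfy

open Cfsg.Lib.Chars Cfsg.Lib.Blocks Subgroup
open scoped Pointwise

universe u

variable {H : Type u} [Group H] [Finite H]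

/-- An element commutes with all of some Sylow subgroup. -/
def Centralizes (r : ℕ) (x : H) : Prop :=
  ∃ S : Sylow r H, x ∈ centralizer ((S : Subgroup H) : Set H)

/-- Every element of the common core commutes with a Sylow `q`- or a Sylow `r`-subgroup. -/
theorem covered [Group.IsSolvable H] {q r : ℕ} [hq : Fact q.Prime] [hr : Fact r.Prime] (hqr : q ≠ r)
    (Q : Sylow q H) (R : Sylow r H)
    (hQR : ∀ x ∈ (Q : Subgroup H), ∀ y ∈ (R : Subgroup H), x * y = y * x)
    (hQa : IsMulCommutative (Q : Subgroup H)) (hRa : IsMulCommutative (R : Subgroup H))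
    (hno : ∀ χ : Cfsg.IrrCharacter H, q ∣ deg (χ : H → ℂ) → ¬ r ∣ deg (χ : H → ℂ)) :
    ∃ C : Subgroup H, (Nat.card C).Coprime q ∧ (Nat.card C).Coprime r ∧
      (∀ S : Sylow q H, ∃ c ∈ C, c • Q = S) ∧ (∀ S : Sylow r H, ∃ c ∈ C, c • R = S) ∧
      ∀ x ∈ C, Centralizes q x ∨ Centralizes r x := by
  classical
  haveI := Fintype.ofFinite H
  haveI := Cfsg.Lib.Components.pPrimeCore_normal' (G := H) q
  haveI := Cfsg.Lib.Components.pPrimeCore_normal' (G := H) r
  set A := Cfsg.pPrimeCore q H with hA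
  set B := Cfsg.pPrimeCore r H with hB
  haveI hCn : (A ⊓ B).Normal := Subgroup.normal_inf_normal _ _
  set C := A ⊓ B with hC
  haveI := Fintype.ofFinite C
  have hCq : (Nat.card C).Coprime q :=
    (Cfsg.Lib.Components.coprime_card_pPrimeCore q).coprime_dvd_left (Subgroup.card_dvd_of_le inf_le_left)
  have hCr : (Nat.card C).Coprime r :=
    (Cfsg.Lib.Components.coprime_card_pPrimeCore r).coprime_dvd_left (Subgroup.card_dvd_of_le inf_le_right)
  have hRA : ∀ S : Sylow r H, (S : Subgroup H) ≤ A := fun S => by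
    have h := SylowNorm.not_dvd_index_pPrimeCore hqr (isPSolvable_of_solvable inferInstance) Q R
      (le_trans (fun x hx => mem_centralizer_iff.2 fun y hy => (hQR x hx y hy).symm)
        (centralizer_le_normalizer _))
    obtain ⟨T, hT⟩ := SylowNorm.exists_sylow_le (p := r) A h
    obtain ⟨g, rfl⟩ := MulAction.exists_smul_eq H T S
    rintro _ ⟨y, hy, rfl⟩
    exact Subgroup.Normal.conj_mem inferInstance y (hT hy) g
  have hQB : ∀ S : Sylow q H, (S : Subgroup H) ≤ B := fun S => by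
    have h := SylowNorm.not_dvd_index_pPrimeCore hqr.symm (isPSolvable_of_solvable inferInstance) R Q
      (le_trans (fun x hx => mem_centralizer_iff.2 fun y hy => hQR y hy x hx)
        (centralizer_le_normalizer _))
    obtain ⟨T, hT⟩ := SylowNorm.exists_sylow_le (p := q) B h
    obtain ⟨g, rfl⟩ := MulAction.exists_smul_eq H T S
    rintro _ ⟨y, hy, rfl⟩
    exact Subgroup.Normal.conj_mem inferInstance y (hT hy) g
  have hconj : ∀ {a : ℕ} [Fact a.Prime] (S₀ : Sylow a H) (K₁ K₂ : Subgroup H) [K₁.Normal] [K₂.Normal],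
      IsMulCommutative (S₀ : Subgroup H) → K₁ = Cfsg.pPrimeCore a H →
      (∀ S : Sylow a H, (S : Subgroup H) ≤ K₂) → K₁ ⊓ K₂ = C →
      ∀ S : Sylow a H, ∃ c ∈ C, c • S₀ = S := by
    intro a _ S₀ K₁ K₂ _ _ hab hK₁ hle hinf S
    haveI hn : ((S₀ : Subgroup H) ⊔ K₁).Normal :=
      hK₁ ▸ Cfsg.Lib.Coprime.abelian_sylow_sup_core_normal S₀ hab
    set W := ((S₀ : Subgroup H) ⊔ K₁) ⊓ K₂ with hW
    haveI : W.Normal := Subgroup.normal_inf_normal _ _
    have h0 : (S₀ : Subgroup H) ≤ W := le_inf le_sup_left (hle S₀)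
    have h1 : (S : Subgroup H) ≤ W := by
      refine le_inf ?_ (hle S)
      obtain ⟨g, rfl⟩ := MulAction.exists_smul_eq H S₀ S
      rintro _ ⟨y, hy, rfl⟩
      exact hn.conj_mem y (mem_sup_left hy) g
    have hWC : W ≤ C ⊔ (S₀ : Subgroup H) := by
      intro w hw
      obtain ⟨k, hk, y, hy, rfl⟩ := Subgroup.mem_sup_of_normal_left.1
        (show w ∈ K₁ ⊔ (S₀ : Subgroup H) by rw [sup_comm]; exact hw.1)
      refine mul_mem (mem_sup_left ?_) (mem_sup_right hy)
      rw [← hinf]
      refine ⟨hk, ?_⟩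
      rw [show k = k * y * y⁻¹ by group]
      exact K₂.mul_mem hw.2 (K₂.inv_mem (hle S₀ hy))
    obtain ⟨w, hw⟩ := MulAction.exists_smul_eq W (S₀.subtype h0) (S.subtype h1)
    rw [Sylow.smul_subtype h0 w] at hw
    obtain ⟨c, hc, y, hy, hcy⟩ := Subgroup.mem_sup_of_normal_left.1 (hWC w.2)
    refine ⟨c, hc, ?_⟩
    rw [← Sylow.subtype_injective hw, Subgroup.smul_def, ← hcy, mul_smul,
      Sylow.smul_eq_iff_mem_normalizer.2 (Subgroup.le_normalizer hy)]
  have hcq := hconj Q A B hQa hA hQB rfl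
  have hcr := hconj R B A hRa hB hRA (by rw [hC, inf_comm])
  refine ⟨C, hCq, hCr, hcq, hcr, ?_⟩
  -- the characters of `C`
  haveI := Q.isPGroup'.isNilpotent
  haveI := R.isPGroup'.isNilpotent
  obtain ⟨mq, hmq⟩ := IsPGroup.iff_card.1 Q.isPGroup'
  obtain ⟨mr, hmr⟩ := IsPGroup.iff_card.1 R.isPGroup'
  have hcopQ : (Nat.card C).Coprime (Nat.card (Q : Subgroup H)) := by rw [hmq]; exact hCq.pow_right mq
  have hcopR : (Nat.card C).Coprime (Nat.card (R : Subgroup H)) := by rw [hmr]; exact hCr.pow_right mr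
  set S : Subgroup H := (Q : Subgroup H) ⊔ (R : Subgroup H) with hS
  have hRQ : (R : Subgroup H) ≤ centralizer ((Q : Subgroup H) : Set H) :=
    fun x hx => mem_centralizer_iff.2 fun y hy => hQR y hy x hx
  have hRN : (R : Subgroup H) ≤ normalizer ((Q : Subgroup H) : Set H) :=
    hRQ.trans (centralizer_le_normalizer _)
  have hQRc : (Nat.card (Q : Subgroup H)).Coprime (Nat.card (R : Subgroup H)) := by
    rw [hmq, hmr]; exact ((Nat.coprime_primes hq.out hr.out).2 hqr).pow mq mr
  have hcopS : (Nat.card C).Coprime (Nat.card S) := by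
    rw [hS, Coprime.card_sup_coprime hRN hQRc]
    exact Nat.Coprime.mul_right hcopQ hcopR
  have hnorm : ∀ (T : Subgroup H), ∀ a ∈ T, ∀ g ∈ C, a * g * a⁻¹ ∈ C :=
    fun T a _ g hg => hCn.conj_mem g hg a
  have hiff : ∀ (T : Subgroup H) (θ : Cfsg.IrrCharacter C),
      (∀ s ∈ T, ∀ g g' : C, (g' : H) = s * g * s⁻¹ → (θ : C → ℂ) g' = (θ : C → ℂ) g) ↔
        T ≤ inertia C (θ : C → ℂ) := by
    intro T θ
    refine ⟨fun h x hx => mem_inertia.2 (funext fun n => ?_), fun h s hs g g' e => ?_⟩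
    · rw [conjN_eq_comp]
      exact h x hx n _ (by simp [MulAut.conjNormal_apply])
    · have := congrFun (mem_inertia.1 (h hs)) g
      rw [conjN_eq_comp] at this
      rw [← this]
      exact congrArg _ (Subtype.ext (e.trans (MulAut.conjNormal_apply (H := C) s g).symm))
  -- every character is fixed by `Q` or by `R`
  have hfix : ∀ θ : Cfsg.IrrCharacter C,
      (Q : Subgroup H) ≤ inertia C (θ : C → ℂ) ∨ (R : Subgroup H) ≤ inertia C (θ : C → ℂ) := by
    intro θ
    obtain ⟨χ, hχ, hc⟩ := exists_over C θ.2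
    obtain ⟨e, he⟩ := deg_eq_mult_orbit C hχ θ.2 hc
    have h1 := card_conjOrbit C (θ : C → ℂ)
    rw [← (inertia C (θ : C → ℂ)).index_mul_card] at h1
    have h2 := Nat.eq_of_mul_eq_mul_right Nat.card_pos h1
    have hd : (inertia C (θ : C → ℂ)).index ∣ deg χ :=
      he ▸ h2 ▸ dvd_mul_of_dvd_right (dvd_mul_right _ _) e
    have hsub : ∀ {a : ℕ} [Fact a.Prime] (S₀ : Sylow a H), ¬ a ∣ (inertia C (θ : C → ℂ)).index →
        (∀ T : Sylow a H, ∃ c ∈ C, c • S₀ = T) → (S₀ : Subgroup H) ≤ inertia C (θ : C → ℂ) := by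
      intro a _ S₀ ha hcj
      obtain ⟨T, hT⟩ := SylowNorm.exists_sylow_le (p := a) _ ha
      obtain ⟨c, hc, rfl⟩ := hcj T
      intro y hy
      have hcI : c ∈ inertia C (θ : C → ℂ) := le_inertia (isClassFunction_irr θ) hc
      have h3 := hT ⟨y, hy, rfl⟩
      simp only [MulDistribMulAction.toMonoidEnd_apply, MulDistribMulAction.toMonoidHom_apply,
        MulAut.smul_def, MulAut.conj_apply] at h3
      rw [show y = c⁻¹ * (c * y * c⁻¹) * c by group]
      exact mul_mem (mul_mem (inv_mem hcI) h3) hcI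
    by_cases hqd : q ∣ (inertia C (θ : C → ℂ)).index
    · exact .inr (hsub R (fun h => hno ⟨χ, hχ⟩ (hqd.trans hd) (h.trans hd)) hcr)
    · exact .inl (hsub Q hqd hcq)
  -- every class is fixed by `Q` or by `R`
  haveI : Group.IsSolvable S := inferInstance
  set FX : Subgroup H → Finset (Cfsg.IrrCharacter C) := fun T =>
    Finset.univ.filter fun θ => T ≤ inertia C (θ : C → ℂ) with hFX
  set FC : Subgroup H → Finset (ConjClasses C) := fun T =>
    Finset.univ.filter fun K => ∀ s ∈ T, ∀ g g' : C, (g' : H) = s * g * s⁻¹ →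
      ConjClasses.mk g = K → ConjClasses.mk g' = K with hFC
  have hglau : ∀ T : Subgroup H, (Nat.card C).Coprime (Nat.card T) → Group.IsSolvable T →
      (FX T).card = (FC T).card := by
    intro T hT hTs
    have h := Cfsg.Agent.S4445.result C T (hnorm T) hT hTs
    rw [Nat.card_congr (Equiv.subtypeEquivRight (hiff T))] at h
    rw [hFX, hFC]
    beta_reduce
    rw [← Nat.card_eq_finsetCard, ← Nat.card_eq_finsetCard]
    refine Eq.trans (Nat.card_congr (Equiv.subtypeEquivRight fun θ => ?_))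
      (h.trans (Nat.card_congr (Equiv.subtypeEquivRight fun K => ?_)))
    · simp
    · simp
  have hXinter : FX (Q : Subgroup H) ∩ FX (R : Subgroup H) = FX S := by
    ext θ; simp [hFX, hS]
  have hCinter : FC (Q : Subgroup H) ∩ FC (R : Subgroup H) = FC S := by
    ext K
    simp only [hFC, Finset.mem_inter, Finset.mem_filter, Finset.mem_univ, true_and, hS]
    refine ⟨fun h s hs g g' e hg => ?_, fun h => ⟨fun s hs => h s (Subgroup.mem_sup_left hs),
      fun s hs => h s (Subgroup.mem_sup_right hs)⟩⟩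
    obtain ⟨a, ha, b, hb, rfl⟩ := (Coprime.mem_sup_of_le_normalizer hRN).1 hs
    have h1 := h.2 b hb g ⟨b * g * b⁻¹, hCn.conj_mem g g.2 b⟩ rfl hg
    exact h.1 a ha _ g' (by rw [e]; simp [mul_assoc]) h1
  have hunion : FX (Q : Subgroup H) ∪ FX (R : Subgroup H) = Finset.univ := by
    ext θ; simpa [hFX] using hfix θ
  have hcover : FC (Q : Subgroup H) ∪ FC (R : Subgroup H) = Finset.univ := by
    refine Finset.eq_univ_of_card _ ?_
    have e1 := Finset.card_union_add_card_inter (FX (Q : Subgroup H)) (FX (R : Subgroup H))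
    have e2 := Finset.card_union_add_card_inter (FC (Q : Subgroup H)) (FC (R : Subgroup H))
    rw [hunion, hXinter, hglau _ hcopS inferInstance, hglau _ hcopQ inferInstance,
      hglau _ hcopR inferInstance, ← hCinter, Finset.card_univ] at e1
    have hirr : Fintype.card (Cfsg.IrrCharacter C) = Fintype.card (ConjClasses C) := by
      rw [← Nat.card_eq_fintype_card, ← Nat.card_eq_fintype_card, card_irrCharacter]
    omega
  have hmeet : ∀ {a : ℕ} [Fact a.Prime] (S₀ : Sylow a H), (Nat.card C).Coprime a → ∀ x : C,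
      ConjClasses.mk x ∈ FC (S₀ : Subgroup H) → Centralizes a (x : H) := by
    intro a ha S₀ hCa x hx
    have hx' := (Finset.mem_filter.1 hx).2
    obtain ⟨n, hn, hnc⟩ := CommSylow.exists_fixed_conj C (S₀ : Subgroup H) le_normalizer_of_normal
      S₀.isPGroup' (fun h => ha.out.one_lt.ne' (Nat.eq_one_of_dvd_coprimes hCa h dvd_rfl)) x.2
      (fun s hs => by
        obtain ⟨n, hn⟩ := isConj_iff.1 (ConjClasses.mk_eq_mk_iff_isConj.1
          (hx' s hs x ⟨s * (x : H) * s⁻¹, hCn.conj_mem x x.2 s⟩ rfl rfl).symm)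
        exact ⟨n, n.2, congrArg Subtype.val hn⟩)
    refine ⟨n⁻¹ • S₀, mem_centralizer_iff.2 ?_⟩
    rintro _ ⟨y, hy, rfl⟩
    simp only [MulDistribMulAction.toMonoidEnd_apply, MulDistribMulAction.toMonoidHom_apply,
      MulAut.smul_def, MulAut.conj_apply, inv_inv]
    have h := mem_centralizer_iff.1 hnc y hy
    calc n⁻¹ * y * n * (x : H) = n⁻¹ * (y * (n * (x : H) * n⁻¹)) * n := by group
      _ = n⁻¹ * ((n * (x : H) * n⁻¹) * y) * n := by rw [h]
      _ = _ := by group
  intro x hx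
  have hmem : ConjClasses.mk (⟨x, hx⟩ : C) ∈ FC (Q : Subgroup H) ∪ FC (R : Subgroup H) :=
    hcover ▸ Finset.mem_univ _
  rcases Finset.mem_union.1 hmem with h | h
  · exact .inl (hmeet Q hCq _ h)
  · exact .inr (hmeet R hCr _ h)

variable {V : Type u} [CommGroup V] [Finite V] (act : H →* MulAut V)

/-- A Sylow subgroup with cells fixes a non-trivial vector. -/
theorem fixed_ne_bot {a : ℕ} [Fact a.Prime] (hc : Cells act a) (hV : ∃ v : V, v ≠ 1) (S : Sylow a H) :
    1 < Nat.card (fixed act (S : Subgroup H)) := by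
  have h := hc.card_eq act S
  obtain ⟨v, hv⟩ := hV
  haveI : Nontrivial V := ⟨⟨v, 1, hv⟩⟩
  have h1 : 1 < Nat.card V := Finite.one_lt_card
  by_contra hle
  rw [Nat.sub_eq_zero_of_le (not_lt.1 hle), mul_zero] at h
  omega

/-- The kernel of the action normalises every Sylow subgroup with cells. -/
theorem ker_le_normalizer {a : ℕ} [Fact a.Prime] (hc : Cells act a) (hV : ∃ v : V, v ≠ 1)
    (S : Sylow a H) {x : H} (hx : act x = 1) : x ∈ normalizer ((S : Subgroup H) : Set H) := by
  haveI := Finite.one_lt_card_iff_nontrivial.1 (fixed_ne_bot act hc hV S)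
  obtain ⟨v, hv1⟩ := exists_ne (1 : fixed act (S : Subgroup H))
  have hv0 : (v : V) ≠ 1 := fun h => hv1 (Subtype.ext h)
  obtain ⟨T, hT, hTn⟩ := hc v hv0
  rw [hc.unique act hv0 (S := S) v.2 hT]
  exact hTn (by rw [mem_stab, hx]; rfl)

/-- An element of prime order `s` commuting with a Sylow subgroup acts trivially. -/
theorem act_eq_one_of_primitive {w m s : ℕ} [hs : Fact s.Prime] (hw : w.Prime)
    (hm : Nat.card V = w ^ m) (hsd : s ∣ w ^ m - 1)
    (hprim : ∀ k : ℕ, 0 < k → k < m → ¬ s ∣ w ^ k - 1)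
    (x : H) (hx : ∃ k : ℕ, orderOf x = s ^ k) (W : Subgroup V) (hW : ∀ v ∈ W, act x v ∈ W)
    (hW1 : 1 < Nat.card W) (hWV : Nat.card W < Nat.card V) : act x = 1 := by
  have hsw : s ≠ w := by
    rintro rfl
    rcases Nat.eq_zero_or_pos m with h0 | h0
    · subst h0
      have h1 : Nat.card W < 1 := by simpa [hm] using hWV
      omega
    · have h2 : 1 ≤ s ^ m := Nat.one_le_pow _ _ hw.pos
      have h3 : s ∣ 1 := (Nat.dvd_sub (dvd_pow_self s h0.ne') hsd).trans (dvd_of_eq (by omega))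
      exact hw.one_lt.ne' (Nat.dvd_one.1 h3)
  have hpow : ∀ U : Subgroup V, ∃ j, j ≤ m ∧ Nat.card U = w ^ j := fun U =>
    (Nat.dvd_prime_pow hw).1 (hm ▸ U.card_subgroup_dvd_card)
  have key : ∀ {i j : ℕ}, j ≤ i → i ≤ m → w ^ i ≡ w ^ j [MOD s] → (i = j ∨ i - j = m) := by
    intro i j hji him hmod
    by_contra hcon
    push Not at hcon
    refine hprim (i - j) (by omega) (by omega) ?_
    have h := (Nat.modEq_iff_dvd' (Nat.pow_le_pow_right hw.pos hji)).1 hmod.symm
    rw [show w ^ i - w ^ j = w ^ j * (w ^ (i - j) - 1) by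
      rw [Nat.mul_sub, mul_one, ← pow_add, Nat.add_sub_cancel' hji]] at h
    exact (((Nat.coprime_primes hs.out hw).2 hsw).pow_right j).dvd_of_dvd_mul_left h
  obtain ⟨a, ham, ha⟩ := hpow W
  obtain ⟨j, -, hj⟩ := hpow (W ⊓ fixed act (zpowers x))
  have h1 := card_modEq_fixed act x hx W hW
  rw [ha, hj] at h1
  have hja : j ≤ a := (Nat.pow_le_pow_iff_right hw.one_lt).1
    (ha ▸ hj ▸ Nat.le_of_dvd Nat.card_pos (Subgroup.card_dvd_of_le inf_le_left))
  have ham' : a < m := (Nat.pow_lt_pow_iff_right hw.one_lt).1 (ha ▸ hm ▸ hWV)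
  have haj : a = j := (key hja ham h1).resolve_right (by omega)
  have hWle : W ≤ fixed act (zpowers x) := by
    intro v hv
    have := Subgroup.eq_of_le_of_card_ge (inf_le_left : W ⊓ fixed act (zpowers x) ≤ W) (by rw [ha, hj, haj])
    rw [← this] at hv
    exact hv.2
  obtain ⟨k, hkm, hk⟩ := hpow (fixed act (zpowers x))
  have h2 := card_modEq_fixed act x hx ⊤ (fun v _ => mem_top _)
  rw [Subgroup.card_top, top_inf_eq, hm, hk] at h2
  have hk0 : 1 ≤ k := by
    by_contra h0
    have h3 := Nat.le_of_dvd Nat.card_pos (Subgroup.card_dvd_of_le hWle)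
    rw [hk, show k = 0 by omega, pow_zero] at h3
    omega
  have hkm' : m = k := (key hkm le_rfl h2).resolve_right (by omega)
  ext v
  have htop := Subgroup.eq_top_of_card_eq (fixed act (zpowers x)) (by rw [hk, hm, hkm'])
  have hv : v ∈ fixed act (zpowers x) := htop ▸ mem_top v
  exact hv x (mem_zpowers x)

/-- A Sylow `q`-subgroup with cells of size two in dimension two has characteristic `q`. -/
theorem eq_char_of_card_sq {w q : ℕ} (hw : w.Prime) [hq : Fact q.Prime] (hc : Cells act q)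
    (hV : Nat.card V = w ^ 2) (S : Sylow q H) (hn : 1 < Nat.card (Sylow q H)) : q = w := by
  obtain ⟨a, ha2, ha⟩ := (Nat.dvd_prime_pow hw).1 (hV ▸ (fixed act (S : Subgroup H)).card_subgroup_dvd_card)
  have h := hc.card_eq act S
  rw [ha, hV] at h
  have hw2 := hw.two_le
  have h4 : 4 ≤ w ^ 2 := by nlinarith
  obtain rfl | rfl | rfl : a = 0 ∨ a = 1 ∨ a = 2 := by omega
  · simp at h; omega
  · rw [pow_one] at h
    have hn' : Nat.card (Sylow q H) = w + 1 := by
      have h2 : (w + 1) * (w - 1) = w ^ 2 - 1 := by rw [← Nat.sq_sub_sq, one_pow]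
      rw [← h2] at h
      exact Nat.eq_of_mul_eq_mul_right (by omega) h
    have hmod := card_sylow_modEq_one q H
    rw [hn', Nat.ModEq.comm, Nat.modEq_iff_dvd' (by omega), Nat.add_sub_cancel] at hmod
    exact (Nat.prime_dvd_prime_iff_eq hq.out hw).1 hmod
  · have : 1 < Nat.card (Sylow q H) := hn
    nlinarith [h, Nat.sub_add_cancel (show 1 ≤ w ^ 2 by omega)]

/-- The possible primes in dimension six over two elements. -/
theorem six_cases {q : ℕ} [hq : Fact q.Prime] (hc : Cells act q) (hV : Nat.card V = 2 ^ 6)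
    (S : Sylow q H) (hn : 1 < Nat.card (Sylow q H)) :
    ∃ a, Nat.card (fixed act (S : Subgroup H)) = 2 ^ a ∧
      (q = 2 ∧ a ≤ 3 ∨ q = 31 ∧ a = 1 ∨ q = 5 ∧ a = 2) := by
  obtain ⟨a, ha6, ha⟩ := (Nat.dvd_prime_pow Nat.prime_two).1
    (hV ▸ (fixed act (S : Subgroup H)).card_subgroup_dvd_card)
  refine ⟨a, ha, ?_⟩
  have h := hc.card_eq act S
  rw [ha, hV] at h
  have hmod := card_sylow_modEq_one q H
  have hd : q ∣ Nat.card (Sylow q H) - 1 := (Nat.modEq_iff_dvd' hn.le).1 hmod.symm
  interval_cases a <;> norm_num at h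
  · have e : Nat.card (Sylow q H) - 1 = 2 * 31 := by omega
    rw [e] at hd
    rcases hq.out.dvd_mul.1 hd with h' | h'
    · exact .inl ⟨(Nat.prime_dvd_prime_iff_eq hq.out Nat.prime_two).1 h', by omega⟩
    · exact .inr (.inl ⟨(Nat.prime_dvd_prime_iff_eq hq.out (by norm_num)).1 h', rfl⟩)
  · have e : Nat.card (Sylow q H) - 1 = 2 ^ 2 * 5 := by omega
    rw [e] at hd
    rcases hq.out.dvd_mul.1 hd with h' | h'
    · exact .inl ⟨(Nat.prime_dvd_prime_iff_eq hq.out Nat.prime_two).1 (hq.out.dvd_of_dvd_pow h'), by omega⟩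
    · exact .inr (.inr ⟨(Nat.prime_dvd_prime_iff_eq hq.out (by norm_num)).1 h', rfl⟩)
  · have e : Nat.card (Sylow q H) - 1 = 2 ^ 3 := by omega
    rw [e] at hd
    exact .inl ⟨(Nat.prime_dvd_prime_iff_eq hq.out Nat.prime_two).1 (hq.out.dvd_of_dvd_pow hd), by omega⟩
  all_goals omega

/-- In dimension six over two elements the fixed vectors of a commuting Sylow subgroup are fixed. -/
theorem six_le {q r : ℕ} [hq : Fact q.Prime] (hV : Nat.card V = 2 ^ 6)
    (hQ : q = 31 ∨ q = 5) (Q : Sylow q H) (R : Sylow r H)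
    (hQR : ∀ x ∈ (Q : Subgroup H), ∀ y ∈ (R : Subgroup H), x * y = y * x) (b : ℕ) (hb3 : b ≤ 3)
    (hb : Nat.card (fixed act (R : Subgroup H)) = 2 ^ b) :
    fixed act (R : Subgroup H) ≤ fixed act (Q : Subgroup H) := by
  intro v hv x hx
  have hord : ∃ k : ℕ, orderOf x = q ^ k := by
    obtain ⟨k, hk⟩ := IsPGroup.iff_orderOf.1 Q.isPGroup' ⟨x, hx⟩
    exact ⟨k, by rwa [Subgroup.orderOf_mk] at hk⟩
  have h1 := card_modEq_fixed act x hord (fixed act (R : Subgroup H)) (fun v hv y hy => by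
    rw [← MulAut.mul_apply, ← map_mul, ← hQR x hx y hy, map_mul, MulAut.mul_apply, hv y hy])
  obtain ⟨j, -, hj⟩ := (Nat.dvd_prime_pow Nat.prime_two).1
    (hV ▸ (fixed act (R : Subgroup H) ⊓ fixed act (zpowers x)).card_subgroup_dvd_card)
  have hjb : j ≤ b := (Nat.pow_le_pow_iff_right (le_refl 2)).1
    (hb ▸ hj ▸ Nat.le_of_dvd Nat.card_pos (Subgroup.card_dvd_of_le inf_le_left))
  rw [hb, hj] at h1
  have hbj : b = j := by
    rcases hQ with rfl | rfl <;> interval_cases b <;> interval_cases j <;>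
      first | rfl | (exfalso; revert h1; decide)
  have := Subgroup.eq_of_le_of_card_ge
    (inf_le_left : fixed act (R : Subgroup H) ⊓ fixed act (zpowers x) ≤ fixed act (R : Subgroup H))
    (by rw [hb, hj, hbj])
  rw [← this] at hv
  exact hv.2 x (mem_zpowers x)

/-- No two primes have cells without a normal Sylow subgroup. -/
theorem core [Group.IsSolvable H] {w q r : ℕ} [hq : Fact q.Prime] [hr : Fact r.Prime] (hw : w.Prime)
    (hqr : q ≠ r) (hVp : IsPGroup w V) (hV : ∃ v : V, v ≠ 1)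
    (hcq : Cells act q) (hcr : Cells act r)
    (hqa : ∀ S : Sylow q H, IsMulCommutative (S : Subgroup H))
    (hra : ∀ S : Sylow r H, IsMulCommutative (S : Subgroup H))
    (hno : ∀ χ : Cfsg.IrrCharacter H, q ∣ deg (χ : H → ℂ) → ¬ r ∣ deg (χ : H → ℂ)) :
    (∃ S : Sylow q H, (S : Subgroup H).Normal) ∨ ∃ S : Sylow r H, (S : Subgroup H).Normal := by
  classical
  by_contra hcon
  push Not at hcon
  have hnq := sylow_card_gt_one hcon.1
  have hnr := sylow_card_gt_one hcon.2
  haveI := Fact.mk hw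
  -- a commuting pair
  obtain ⟨v, hv⟩ := hV
  obtain ⟨Q, hQv, hQn⟩ := hcq v hv
  obtain ⟨R, hRv, hRn⟩ := hcr v hv
  have hV' : ∃ v : V, v ≠ 1 := ⟨v, hv⟩
  have hQR : ∀ x ∈ (Q : Subgroup H), ∀ y ∈ (R : Subgroup H), x * y = y * x := by
    intro x hx y hy
    have hd : (Q : Subgroup H) ⊓ (R : Subgroup H) = ⊥ :=
      (IsPGroup.disjoint_of_ne q r hqr _ _ Q.isPGroup' R.isPGroup').eq_bot
    have h1 : x * y * x⁻¹ * y⁻¹ ∈ (Q : Subgroup H) ⊓ (R : Subgroup H) := by
      refine ⟨?_, (R : Subgroup H).mul_mem ((mem_normalizer_iff.1 (hRn (hQv hx)) y).1 hy)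
        ((R : Subgroup H).inv_mem hy)⟩
      rw [show x * y * x⁻¹ * y⁻¹ = x * (y * x⁻¹ * y⁻¹) by group]
      exact (Q : Subgroup H).mul_mem hx
        ((mem_normalizer_iff.1 (hQn (hRv hy)) _).1 ((Q : Subgroup H).inv_mem hx))
    rw [hd, mem_bot, mul_inv_eq_one, mul_inv_eq_iff_eq_mul] at h1
    exact h1
  obtain ⟨C, hCq, hCr, hcjq, hcjr, hcov⟩ := covered hqr Q R hQR (hqa Q) (hra R) hno
  obtain ⟨m, hm⟩ := IsPGroup.iff_card.1 hVp
  have hsize : ∀ {a : ℕ} [Fact a.Prime], Cells act a → ∀ S : Sylow a H, 1 < Nat.card (Sylow a H) →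
      ∃ j, 0 < j ∧ j < m ∧ Nat.card (fixed act (S : Subgroup H)) = w ^ j := by
    intro a _ hc S hn
    obtain ⟨j, hjm, hj⟩ := (Nat.dvd_prime_pow hw).1 (hm ▸ (fixed act (S : Subgroup H)).card_subgroup_dvd_card)
    have h1 := fixed_ne_bot act hc hV' S
    have h2 := hc.card_eq act S
    rw [hj] at h1 h2
    rw [hm] at h2
    refine ⟨j, ?_, lt_of_le_of_ne hjm ?_, hj⟩
    · rcases Nat.eq_zero_or_pos j with rfl | hpos
      · simp at h1
      · exact hpos
    · rintro rfl
      have : 1 * (w ^ j - 1) < Nat.card (Sylow a H) * (w ^ j - 1) :=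
        Nat.mul_lt_mul_of_pos_right hn (by omega)
      omega
  obtain ⟨a, ha0, ham, ha⟩ := hsize hcq Q hnq
  have hcardq := hcq.card_eq act Q
  rw [ha, hm] at hcardq
  by_cases hm2 : m = 2
  · rw [hm2] at hm
    exact hqr ((eq_char_of_card_sq act hw hcq hm Q hnq).trans (eq_char_of_card_sq act hw hcr hm R hnr).symm)
  by_cases h26 : w = 2 ∧ m = 6
  · obtain ⟨rfl, rfl⟩ := h26
    obtain ⟨a, ha, hqc⟩ := six_cases act hcq hm Q hnq
    obtain ⟨b, hb, hrc⟩ := six_cases act hcr hm R hnr
    have hQR' : ∀ x ∈ (R : Subgroup H), ∀ y ∈ (Q : Subgroup H), x * y = y * x :=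
      fun x hx y hy => (hQR y hy x hx).symm
    -- a vector outside the fixed space of the odd Sylow subgroup
    have key : ∀ {q r : ℕ} [Fact q.Prime] [Fact r.Prime] (Q : Sylow q H) (R : Sylow r H),
        (∀ x ∈ (Q : Subgroup H), ∀ y ∈ (R : Subgroup H), x * y = y * x) → (q = 31 ∨ q = 5) → r = 2 →
        fixed act (R : Subgroup H) ≤ fixed act (Q : Subgroup H) →
        Nat.card (fixed act (Q : Subgroup H)) ≤ 4 → False := by
      intro q r _ _ Q R hQR hq hr hle hsmall
      subst hr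
      letI := Fintype.ofFinite (Q : Subgroup H)
      let ν : V →* V := ∏ x : (Q : Subgroup H), (act (x : H)).toMonoidHom
      have hν : ∀ v, ν v = ∏ x : (Q : Subgroup H), act (x : H) v := fun v =>
        MonoidHom.finsetProd_apply _ _ v
      have hrange : ν.range ≤ fixed act (Q : Subgroup H) := by
        rintro _ ⟨v, rfl⟩ y hy
        rw [hν, map_prod]
        refine Fintype.prod_equiv (Equiv.mulLeft ⟨y, hy⟩) _ _ fun x => ?_
        show act y (act (x : H) v) = act (y * (x : H)) v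
        rw [map_mul, MulAut.mul_apply]
      have hker : 1 < Nat.card ν.ker := by
        by_contra hle'
        have h1 := Nat.le_of_dvd Nat.card_pos (Subgroup.card_dvd_of_le hrange)
        rw [← Subgroup.index_ker] at h1
        have h2 := ν.ker.card_mul_index
        have h3 : Nat.card ν.ker = 1 := le_antisymm (not_lt.1 hle') Nat.card_pos
        rw [h3, one_mul, hm] at h2
        rw [h2] at h1
        norm_num at h1
        omega
      have hRinv : ∀ y ∈ (R : Subgroup H), ∀ v ∈ ν.ker, act y v ∈ ν.ker := by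
        intro y hy v hv
        rw [MonoidHom.mem_ker, hν] at hv ⊢
        have e : ∀ x : (Q : Subgroup H), act (x : H) (act y v) = act y (act (x : H) v) := fun x => by
          rw [← MulAut.mul_apply, ← map_mul, hQR x x.2 y hy, map_mul, MulAut.mul_apply]
        simp only [e, ← map_prod, hv, map_one]
      letI : MulAction (R : Subgroup H) ν.ker :=
        { smul := fun y v => ⟨act (y : H) (v : V), hRinv y y.2 v v.2⟩
          one_smul := fun v => Subtype.ext (by
            show act ((1 : (R : Subgroup H)) : H) (v : V) = v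
            rw [OneMemClass.coe_one, map_one]; rfl)
          mul_smul := fun y z v => Subtype.ext (by
            show act ((y * z : (R : Subgroup H)) : H) (v : V) = act (y : H) (act (z : H) (v : V))
            rw [Subgroup.coe_mul, map_mul, MulAut.mul_apply]) }
      obtain ⟨j, -, hj⟩ := (Nat.dvd_prime_pow Nat.prime_two).1 (hm ▸ ν.ker.card_subgroup_dvd_card)
      have h2d : 2 ∣ Nat.card ν.ker := by
        rw [hj] at hker ⊢
        exact dvd_pow_self 2 fun h0 => by simp [h0] at hker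
      obtain ⟨u, hu, hu1⟩ := R.isPGroup'.exists_fixed_point_of_prime_dvd_card_of_fixed_point ν.ker h2d
        (a := 1) (fun y => Subtype.ext (map_one (act (y : H))))
      have huR : (u : V) ∈ fixed act (R : Subgroup H) := fun y hy => congrArg Subtype.val (hu ⟨y, hy⟩)
      have huQ := hle huR
      have h1 : ν (u : V) = (u : V) ^ Nat.card (Q : Subgroup H) := by
        rw [hν, Nat.card_eq_fintype_card, ← Finset.card_univ, ← Finset.prod_const]
        exact Finset.prod_congr rfl fun x _ => huQ x x.2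
      rw [MonoidHom.mem_ker.1 u.2] at h1
      have hcop : (Nat.card V).Coprime (Nat.card (Q : Subgroup H)) := by
        rw [hm, Sylow.card_eq_multiplicity]
        refine Nat.Coprime.pow 6 _ ((Nat.coprime_primes Nat.prime_two Fact.out).2 ?_)
        omega
      have h3 : (u : V) = 1 := (powCoprime hcop).injective
        (by simpa [powCoprime] using h1.symm)
      exact hu1 (Subtype.ext h3).symm
    have hsub : ∀ {a b : ℕ}, fixed act (R : Subgroup H) ≤ fixed act (Q : Subgroup H) →
        Nat.card (fixed act (Q : Subgroup H)) = 2 ^ a → Nat.card (fixed act (R : Subgroup H)) = 2 ^ b →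
        b ≤ a := fun hle ha hb => (Nat.pow_le_pow_iff_right (le_refl 2)).1
          (ha ▸ hb ▸ Nat.le_of_dvd Nat.card_pos (Subgroup.card_dvd_of_le hle))
    have hsub' : ∀ {a b : ℕ}, fixed act (Q : Subgroup H) ≤ fixed act (R : Subgroup H) →
        Nat.card (fixed act (Q : Subgroup H)) = 2 ^ a → Nat.card (fixed act (R : Subgroup H)) = 2 ^ b →
        a ≤ b := fun hle ha hb => (Nat.pow_le_pow_iff_right (le_refl 2)).1
          (ha ▸ hb ▸ Nat.le_of_dvd Nat.card_pos (Subgroup.card_dvd_of_le hle))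
    rcases hqc with ⟨hq2, ha3⟩ | ⟨hq31, ha1⟩ | ⟨hq5, ha2⟩
    · have hr' : r = 31 ∨ r = 5 := by omega
      have hle := six_le act hm hr' R Q hQR' a ha3 ha
      refine key R Q hQR' hr' hq2 hle (hb ▸ ?_)
      exact le_trans (Nat.pow_le_pow_right two_pos (show b ≤ 2 by omega)) (by norm_num)
    · have hle := six_le act hm (.inl hq31) Q R hQR b (by omega) hb
      by_cases hr2 : r = 2
      · exact key Q R hQR (.inl hq31) hr2 hle (by rw [ha, ha1]; norm_num)
      · have := hsub hle ha hb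
        omega
    · have hle := six_le act hm (.inr hq5) Q R hQR b (by omega) hb
      by_cases hr2 : r = 2
      · exact key Q R hQR (.inr hq5) hr2 hle (by rw [ha, ha2]; norm_num)
      · have hle' := six_le act hm (show r = 31 ∨ r = 5 by omega) R Q hQR' a (by omega) ha
        have := hsub hle ha hb
        have := hsub' hle' ha hb
        omega
  obtain ⟨s, hs, hsd, hprim⟩ :=
    Cfsg.Lib.Zsigmondy.zsigmondy w m hw.one_lt (by omega) h26 (fun h => hm2 h.1)
  haveI := Fact.mk hs
  have hsn : s ∣ Nat.card (Sylow q H) := by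
    rw [← hcardq] at hsd
    exact (hs.dvd_mul.1 hsd).resolve_right (hprim a ha0 ham)
  -- an element of `s`-power order outside the normaliser
  have horb : Nat.card (Sylow q H) = (normalizer ((Q : Subgroup H) : Set H)).relIndex C := by
    haveI : MulAction.IsPretransitive C (Sylow q H) := ⟨fun S T => by
      obtain ⟨c, hc, rfl⟩ := hcjq S
      obtain ⟨d, hd, rfl⟩ := hcjq T
      exact ⟨⟨d * c⁻¹, mul_mem hd (inv_mem hc)⟩, by rw [Subgroup.smul_def, ← mul_smul]; simp⟩⟩
    rw [← MulAction.index_stabilizer_of_transitive (G := C) Q]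
    show _ = ((normalizer ((Q : Subgroup H) : Set H)).subgroupOf C).index
    congr 1
    ext y
    rw [MulAction.mem_stabilizer_iff, mem_subgroupOf, Subgroup.smul_def, Sylow.smul_eq_iff_mem_normalizer]
    rfl
  obtain ⟨x, hxC, hxord, hxN⟩ : ∃ x ∈ C, (∃ k : ℕ, orderOf x = s ^ k) ∧
      x ∉ normalizer ((Q : Subgroup H) : Set H) := by
    by_contra hall
    push Not at hall
    obtain ⟨T⟩ : Nonempty (Sylow s C) := inferInstance
    have hle : (T : Subgroup C) ≤ (normalizer ((Q : Subgroup H) : Set H)).subgroupOf C := fun y hy => by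
      obtain ⟨k, hk⟩ := IsPGroup.iff_orderOf.1 T.isPGroup' ⟨y, hy⟩
      rw [Subgroup.orderOf_mk, ← Subgroup.orderOf_coe] at hk
      exact hall y y.2 ⟨k, hk⟩
    have h1 : (normalizer ((Q : Subgroup H) : Set H)).relIndex C ∣ (T : Subgroup C).index :=
      Subgroup.index_dvd_of_le hle
    rw [← horb] at h1
    exact T.not_dvd_index (hsn.trans h1)
  have hne : act x ≠ 1 := fun h => hxN (ker_le_normalizer act hcq hV' Q h)
  have fin : ∀ {a : ℕ} [Fact a.Prime] (S : Sylow a H), Cells act a → 1 < Nat.card (Sylow a H) →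
      x ∈ centralizer ((S : Subgroup H) : Set H) → False := by
    intro a _ S hc hn hx
    obtain ⟨j, hj0, hjm, hj⟩ := hsize hc S hn
    refine hne (act_eq_one_of_primitive act hw hm hsd hprim x hxord (fixed act (S : Subgroup H)) ?_ ?_ ?_)
    · intro u hu y hy
      rw [← MulAut.mul_apply, ← map_mul, mem_centralizer_iff.1 hx y hy, map_mul, MulAut.mul_apply, hu y hy]
    · rw [hj]; exact Nat.one_lt_pow hj0.ne' hw.one_lt
    · rw [hj, hm]; exact Nat.pow_lt_pow_right hw.one_lt hjm
  rcases hcov x hxC with ⟨S, hS⟩ | ⟨S, hS⟩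
  · exact fin S hcq hnq hS
  · exact fin S hcr hnr hS

end Cfsg.Lib.Palfy
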