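import Mathlib
import Cfsg.Agent.Blocks.Palfy.Core
import Cfsg.Agent.Chars.TwoDegrees

/-!
# Degrees over a character of a complemented normal subgroup
-/

set_option autoImplicit false
set_option linter.unusedSectionVars false
set_option linter.style.haveILetI false

namespace Cfsg.Lib.Palfy

open Cfsg.Lib.Chars Cfsg.Lib.Blocks Subgroup
open scoped Pointwise

universe u

variable {G : Type u} [Group G] [Finite G]

/-- No degree is divisible by both primes. -/
def NoProd (p q : ℕ) (G : Type u) [Group G] : Prop :=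
  ∀ χ : Cfsg.IrrCharacter G, p ∣ deg (χ : G → ℂ) → ¬ q ∣ deg (χ : G → ℂ)

theorem NoProd.symm {p q : ℕ} (h : NoProd p q G) : NoProd q p G := fun χ hq hp => h χ hp hq

theorem deg_comp {X : Type u} [Group X] [Finite X] (β : Cfsg.IrrCharacter X) (f : G →* X)
    (hf : Function.Surjective f) : deg (fun g => (β : X → ℂ) (f g)) = deg (β : X → ℂ) := by
  apply Nat.cast_injective (R := ℂ)
  rw [← irr_apply_one_eq_deg ⟨_, IsIrrCharacter.comp_surjective β.2 f hf⟩, ← irr_apply_one_eq_deg β]
  exact congrArg (β : X → ℂ) (map_one f)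

theorem NoProd.of_surjective {p q : ℕ} {X : Type u} [Group X] [Finite X] (h : NoProd p q G)
    (f : G →* X) (hf : Function.Surjective f) : NoProd p q X := fun χ hp hq =>
  h ⟨_, IsIrrCharacter.comp_surjective χ.2 f hf⟩ (by rwa [deg_comp χ f hf]) (by rwa [deg_comp χ f hf])

/-- A complemented normal subgroup. -/
structure Split (N H : Subgroup G) : Prop where
  sup : N ⊔ H = ⊤
  inf : N ⊓ H = ⊥

variable {N H : Subgroup G} [N.Normal]

theorem Split.exists_proj (hs : Split N H) :
    ∃ f : G →* H, (∀ h : H, f h = h) ∧ (∀ g : G, g * (f g : G)⁻¹ ∈ N) ∧ (∀ n ∈ N, f n = 1) := by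
  let g : H →* G ⧸ N := (QuotientGroup.mk' N).comp H.subtype
  have hinj : Function.Injective g := by
    rw [← MonoidHom.ker_eq_bot_iff, eq_bot_iff]
    intro h hh
    have h1 : (h : G) ∈ N := (QuotientGroup.eq_one_iff _).1 (MonoidHom.mem_ker.1 hh)
    rw [Subgroup.mem_bot]
    exact Subtype.ext (Subgroup.mem_bot.1 (hs.inf ▸ (⟨h1, h.2⟩ : (h : G) ∈ N ⊓ H)))
  have hsur : Function.Surjective g := fun y => by
    obtain ⟨x, rfl⟩ := QuotientGroup.mk_surjective y
    obtain ⟨n, hn, h, hh, rfl⟩ := Subgroup.mem_sup_of_normal_left.1 (hs.sup ▸ mem_top x : x ∈ N ⊔ H)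
    refine ⟨⟨h, hh⟩, ?_⟩
    show QuotientGroup.mk' N h = QuotientGroup.mk' N (n * h)
    rw [map_mul, show QuotientGroup.mk' N n = 1 from (QuotientGroup.eq_one_iff n).2 hn, one_mul]
  let e := MulEquiv.ofBijective g ⟨hinj, hsur⟩
  refine ⟨e.symm.toMonoidHom.comp (QuotientGroup.mk' N), fun h => e.symm_apply_apply h, fun x => ?_,
    fun n hn => ?_⟩
  · have h1 : QuotientGroup.mk' N ((e.symm (QuotientGroup.mk' N x) : H) : G) = QuotientGroup.mk' N x :=
      e.apply_symm_apply _
    show x * ((e.symm (QuotientGroup.mk' N x) : H) : G)⁻¹ ∈ N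
    rw [← QuotientGroup.eq_one_iff, ← QuotientGroup.mk'_apply, map_mul, map_inv, h1, mul_inv_cancel]
  · show e.symm (QuotientGroup.mk' N n) = 1
    rw [show QuotientGroup.mk' N n = 1 from (QuotientGroup.eq_one_iff n).2 hn, map_one]

/-- Gallagher and Clifford: a degree over an extendible character. -/
theorem exists_deg_over [Fintype G] [Fintype N] {θ : N → ℂ} (hθ : Cfsg.IsIrrCharacter N θ)
    {T : Subgroup G} (hT : T = inertia N θ) [Fintype T] (hNT : N ≤ T) {η : T → ℂ}
    (hη : Cfsg.IsIrrCharacter T η) (hres : ∀ n : N, η (Subgroup.inclusion hNT n) = θ n)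
    {X : Type u} [Group X] [Finite X] (π : T →* X) (hπ : Function.Surjective π)
    (hker : ∀ n : N, π (Subgroup.inclusion hNT n) = 1) (β : Cfsg.IrrCharacter X) :
    ∃ χ : Cfsg.IrrCharacter G,
      deg (χ : G → ℂ) = T.index * (deg (β : X → ℂ) * deg θ) := by
  classical
  set N' := N.subgroupOf T with hN'
  haveI : N'.Normal := Subgroup.normal_subgroupOf
  haveI := Fintype.ofFinite N'
  have hb := IsIrrCharacter.comp_surjective β.2 π hπ
  set b : T → ℂ := fun t => (β : X → ℂ) (π t) with hbdef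
  let e := Subgroup.subgroupOfEquivOfLe hNT
  have hmem : ∀ x : N', (x : T) = Subgroup.inclusion hNT (e x) := fun x => Subtype.ext rfl
  have hone : ((principal N' : Cfsg.IrrCharacter N') : N' → ℂ) = fun _ => 1 := rfl
  have hprod : Cfsg.IsIrrCharacter N'
      (((principal N' : Cfsg.IrrCharacter N') : N' → ℂ) * fun x : N' => η x) := by
    have h1 : (((principal N' : Cfsg.IrrCharacter N') : N' → ℂ) * fun x : N' => η x) =
        fun x => θ (e x) := by
      funext x
      rw [hone, Pi.mul_apply, one_mul, hmem x, hres]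
    rw [h1]
    exact IsIrrCharacter.comp_mulEquiv hθ e
  have hgal := gallagher N' (principal N').2 (fun g => by rw [hone]; rfl) hη hprod
  have hbN : Cfsg.classInner (Cfsg.indFun N' ((principal N' : Cfsg.IrrCharacter N') : N' → ℂ)) b ≠ 0 := by
    rw [frobenius_reciprocity N' _ (isClassFunction_irr ⟨b, hb⟩), hone, classInner_def]
    refine mul_ne_zero (inv_ne_zero (Nat.cast_ne_zero.2 Nat.card_pos.ne')) ?_
    have h1 : ∀ x : N', b x = (β : X → ℂ) 1 := fun x => by rw [hbdef]; simp only; rw [hmem x, hker]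
    simp only [one_mul]
    rw [Finset.sum_congr rfl fun x _ => by rw [h1 x], Finset.sum_const, nsmul_eq_mul]
    refine mul_ne_zero (Nat.cast_ne_zero.2 (Finset.card_ne_zero.2 ⟨1, Finset.mem_univ _⟩)) ?_
    simpa using IsIrrCharacter.apply_one_ne_zero β.2
  obtain ⟨hψ, -⟩ := hgal.mapsTo ⟨hb, hbN⟩
  obtain ⟨χ, hχ, hχψ⟩ := exists_constituent_ind T hψ
  have hbr : ∀ n : N, b (Subgroup.inclusion hNT n) = (β : X → ℂ) 1 := fun n => by
    rw [hbdef]; simp only; rw [hker]
  have hc : Cfsg.classInner (fun n : N => (b * η) (Subgroup.inclusion hNT n)) θ ≠ 0 := by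
    rw [show (fun n : N => (b * η) (Subgroup.inclusion hNT n)) = ((β : X → ℂ) 1) • θ from funext fun n => by
      rw [Pi.mul_apply, hbr, hres, Pi.smul_apply, smul_eq_mul]]
    rw [classInner_smul_left, classInner_irrChar hθ hθ, if_pos rfl, mul_one]
    exact IsIrrCharacter.apply_one_ne_zero β.2
  obtain ⟨hind, -⟩ := clifford_correspondence hθ T hT hNT hχ hψ hχψ hc
  refine ⟨⟨χ, hχ⟩, Nat.cast_injective (R := ℂ) ?_⟩
  rw [← irr_apply_one_eq_deg]
  show χ 1 = _
  rw [← hind, indFun_one]
  push_cast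
  congr 1
  show b 1 * η 1 = _
  rw [← irr_apply_one_eq_deg β, ← irr_apply_one_eq_deg ⟨θ, hθ⟩]
  show _ = (β : X → ℂ) 1 * θ 1
  rw [← hres 1, hbdef, map_one]
  simp only [map_one]

/-- An invariant linear character of a complemented subgroup extends. -/
theorem linear_extension [Fintype G] [Fintype N] (hs : Split N H) (lam : N →* ℂˣ)
    [Fintype (inertia N (fun n => (lam n : ℂ)))] :
    ∃ (hNT : N ≤ inertia N (fun n => (lam n : ℂ))) (η : inertia N (fun n => (lam n : ℂ)) → ℂ),
      Cfsg.IsIrrCharacter _ η ∧ ∀ n : N, η (Subgroup.inclusion hNT n) = (lam n : ℂ) := by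
  set T := inertia N (fun n => (lam n : ℂ)) with hT
  have hNT : N ≤ T := le_inertia (isClassFunction_irr ⟨_, isIrrCharacter_linear lam⟩)
  obtain ⟨f, -, hf2, hf3⟩ := hs.exists_proj
  have hinv : ∀ (x : T) (n : N), lam (MulAut.conjNormal (x : G) n) = lam n := fun x n => by
    have := congrFun (mem_inertia.1 x.2) n
    rw [conjN_eq_comp] at this
    exact Units.ext this
  let L : T → N := fun t => ⟨(t : G) * ((f t : H) : G)⁻¹, hf2 t⟩
  have hfT : ∀ t : T, ((f t : H) : G) ∈ T := fun t => by
    rw [show ((f t : H) : G) = ((t : G) * ((f t : H) : G)⁻¹)⁻¹ * t by group]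
    exact T.mul_mem (T.inv_mem (hNT (hf2 t))) t.2
  have hmul : ∀ s t : T, L (s * t) = L s * MulAut.conjNormal ((f s : H) : G) (L t) := fun s t => by
    apply Subtype.ext
    simp only [L, Subgroup.coe_mul, map_mul, MulAut.conjNormal_apply]
    group
  let η : T →* ℂˣ :=
    { toFun := fun t => lam (L t)
      map_one' := by
        rw [show L 1 = 1 from Subtype.ext (by simp [L]), map_one]
      map_mul' := fun s t => by rw [hmul, map_mul, hinv ⟨_, hfT s⟩] }
  refine ⟨hNT, fun t => (η t : ℂ), isIrrCharacter_linear η, fun n => ?_⟩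
  show ((lam (L (Subgroup.inclusion hNT n)) : ℂˣ) : ℂ) = _
  congr 2
  apply Subtype.ext
  simp [L, hf3 _ n.2]

/-- An invariant character of a coprime normal subgroup extends. -/
theorem coprime_extension [Fintype G] [Fintype N] (hcop : (Nat.card N).Coprime N.index)
    (θ : Cfsg.IrrCharacter N) [Fintype (inertia N (θ : N → ℂ))] :
    ∃ (hNT : N ≤ inertia N (θ : N → ℂ)) (η : inertia N (θ : N → ℂ) → ℂ),
      Cfsg.IsIrrCharacter _ η ∧ ∀ n : N, η (Subgroup.inclusion hNT n) = (θ : N → ℂ) n := by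
  classical
  set T := inertia N (θ : N → ℂ) with hT
  have hNT : N ≤ T := le_inertia (isClassFunction_irr θ)
  haveI : (N.subgroupOf T).Normal := Subgroup.normal_subgroupOf
  haveI := Fintype.ofFinite (N.subgroupOf T)
  set e := Subgroup.subgroupOfEquivOfLe hNT with he
  set θ' := irrEquiv e θ with hθ'
  have hinv : ∀ g : T, conjN (N.subgroupOf T) g (θ' : N.subgroupOf T → ℂ) = θ' := by
    intro g
    funext n
    have := congrFun (mem_inertia.1 g.2) (e n)
    simp only [conjN] at this ⊢
    rw [hθ', irrEquiv_apply, irrEquiv_apply, ← this]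
    exact congrArg _ (Subtype.ext rfl)
  have hcard : Nat.card (N.subgroupOf T) = Nat.card N := Nat.card_congr e.toEquiv
  have hidx : (N.subgroupOf T).index ∣ N.index := Subgroup.relIndex_dvd_index_of_normal N T
  have hdet : Cfsg.detOrder (θ' : N.subgroupOf T → ℂ) ∣ Nat.card (N.subgroupOf T) := by
    obtain ⟨f, hf⟩ := detChar_is_hom (isCharacter_of_irr θ'.2)
    rw [show Cfsg.detOrder (θ' : N.subgroupOf T → ℂ) = orderOf f by
      rw [Cfsg.detOrder, hf]; exact orderOf_linear f]
    refine orderOf_dvd_of_pow_eq_one ?_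
    ext x
    rw [MonoidHom.pow_apply, ← map_pow, pow_card_eq_one', map_one, MonoidHom.one_apply]
  have hdeg : deg (θ' : N.subgroupOf T → ℂ) ∣ Nat.card (N.subgroupOf T) := IsIrrCharacter.deg_dvd θ'.2
  rw [hcard] at hdet hdeg
  obtain ⟨η, ⟨hη, hηN, -⟩, -⟩ := exists_canonical_extension (N.subgroupOf T) θ'.2 hinv
    (irr_apply_one_eq_deg θ') (Nat.Coprime.mul_right
      ((hcop.coprime_dvd_left hdet).coprime_dvd_right hidx).symm
      ((hcop.coprime_dvd_left hdeg).coprime_dvd_right hidx).symm)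
  refine ⟨hNT, η, hη, fun n => ?_⟩
  have := hηN (e.symm n)
  rw [hθ', irrEquiv_apply, MulEquiv.apply_symm_apply] at this
  rw [← this]
  exact congrArg η (Subtype.ext rfl)

variable {p q : ℕ}

/-- The stabiliser in the complement has a normal abelian Sylow subgroup of the whole complement. -/
theorem stab_structure [Fintype G] [Fintype N] [hsol : Group.IsSolvable G] [hq : Fact q.Prime]
    (hs : Split N H) (hno : NoProd p q G) {θ : N → ℂ}
    (hθ : Cfsg.IsIrrCharacter N θ) [Fintype (inertia N θ)] (hNT : N ≤ inertia N θ)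
    {η : inertia N θ → ℂ} (hη : Cfsg.IsIrrCharacter (inertia N θ) η)
    (hres : ∀ n : N, η (Subgroup.inclusion hNT n) = θ n)
    (hp : p ∣ (inertia N θ).index * deg θ) :
    ∃ S : Sylow q H, (S : Subgroup H) ≤ (inertia N θ).comap H.subtype ∧
      (inertia N θ).comap H.subtype ≤ normalizer ((S : Subgroup H) : Set H) ∧
      IsMulCommutative (S : Subgroup H) := by
  classical
  set T := inertia N θ with hT
  set X := T.comap H.subtype with hX
  haveI : Group.IsSolvable X := inferInstance
  obtain ⟨f, hf1, hf2, hf3⟩ := hs.exists_proj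
  have hfT : ∀ t : G, t ∈ T → f t ∈ X := fun t ht => by
    rw [hX, mem_comap]
    show ((f t : H) : G) ∈ T
    rw [show ((f t : H) : G) = (t * ((f t : H) : G)⁻¹)⁻¹ * t by group]
    exact T.mul_mem (T.inv_mem (hNT (hf2 t))) ht
  have hcomap : X.comap f = T := by
    ext t
    refine ⟨fun h => ?_, fun h => hfT t h⟩
    rw [show t = t * ((f t : H) : G)⁻¹ * ((f t : H) : G) by group]
    exact T.mul_mem (hNT (hf2 t)) h
  have hfs : Function.Surjective f := fun h => ⟨h, hf1 h⟩
  have hidx : X.index = T.index := by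
    rw [← hcomap, Subgroup.index_comap_of_surjective _ hfs]
  let π : T →* X := (f.comp T.subtype).codRestrict X fun t => hfT t t.2
  have hπ : Function.Surjective π := fun x =>
    ⟨⟨((x : H) : G), x.2⟩, Subtype.ext (hf1 x)⟩
  have hker : ∀ n : N, π (Subgroup.inclusion hNT n) = 1 := fun n => Subtype.ext (hf3 n n.2)
  have hall : ∀ β : Cfsg.IrrCharacter X, ¬ q ∣ X.index * deg (β : X → ℂ) := fun β hd => by
    obtain ⟨χ, hχ⟩ := exists_deg_over hθ hT hNT hη hres π hπ hker β
    refine hno χ ?_ ?_ <;> rw [hχ]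
    · exact hp.trans ⟨deg (β : X → ℂ), by ring⟩
    · rw [hidx] at hd
      exact hd.trans ⟨deg θ, by ring⟩
  have hXq : ¬ q ∣ X.index := fun h => hall (principal X) (dvd_mul_of_dvd_left h _)
  obtain ⟨S, hS⟩ := SylowNorm.exists_sylow_le (p := q) X hXq
  obtain ⟨hn, hab⟩ := (ito_iff (p := q) (isPSolvable_of_solvable inferInstance) (S.subtype hS)).2
    fun β h => hall β (dvd_mul_of_dvd_right h _)
  rw [Sylow.coe_subtype] at hn hab
  refine ⟨S, hS, (Subgroup.normal_subgroupOf_iff_le_normalizer hS).1 hn, ⟨⟨fun a b => ?_⟩⟩⟩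
  have := hab.1.1 ⟨⟨a, hS a.2⟩, a.2⟩ ⟨⟨b, hS b.2⟩, b.2⟩
  exact Subtype.ext (congrArg (fun z : ((S : Subgroup H).subgroupOf X) => ((z : X) : H)) this)

/-- The action on linear characters. -/
def dualAct (N : Subgroup G) [N.Normal] : G →* MulAut (N →* ℂˣ) where
  toFun g :=
    { toFun := fun μ => μ.comp (MulAut.conjNormal g⁻¹ : MulAut N).toMonoidHom
      invFun := fun μ => μ.comp (MulAut.conjNormal g : MulAut N).toMonoidHom
      left_inv := fun μ => MonoidHom.ext fun n => congrArg μ (Subtype.ext (by simp [mul_assoc]))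
      right_inv := fun μ => MonoidHom.ext fun n => congrArg μ (Subtype.ext (by simp [mul_assoc]))
      map_mul' := fun μ ν => rfl }
  map_one' := MulEquiv.ext fun μ => MonoidHom.ext fun n => congrArg μ (Subtype.ext (by simp))
  map_mul' a b := MulEquiv.ext fun μ => MonoidHom.ext fun n =>
    congrArg μ (Subtype.ext (by simp [mul_assoc]))

theorem dualAct_apply (g : G) (μ : N →* ℂˣ) (n : N) :
    dualAct N g μ n = μ (MulAut.conjNormal g⁻¹ n) := rfl

theorem mem_inertia_iff_dual (g : G) (μ : N →* ℂˣ) :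
    g ∈ inertia N (fun n => (μ n : ℂ)) ↔ dualAct N g μ = μ := by
  constructor
  · intro h
    refine MonoidHom.ext fun n => Units.ext ?_
    have := congrFun (mem_inertia.1 ((inertia N _).inv_mem h)) n
    rw [conjN_eq_comp] at this
    exact this
  · intro h
    rw [← inv_inv g]
    refine (inertia N _).inv_mem (mem_inertia.2 (funext fun n => ?_))
    rw [conjN_eq_comp]
    exact congrArg Units.val (DFunLike.congr_fun h n)

end Cfsg.Lib.Palfy
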