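import Mathlib
import Cfsg.Agent.Blocks.Palfy.Setup

/-!
# Common tools for the three primes
-/

set_option autoImplicit false
set_option linter.unusedSectionVars false
set_option linter.style.haveILetI false

namespace Cfsg.Lib.Palfy

open Cfsg.Lib.Chars Cfsg.Lib.Blocks Subgroup
open scoped Pointwise

universe u

variable {G : Type u} [Group G] [Finite G]

/-- Some degree is divisible by `p`. -/
def HasDeg (p : ℕ) (G : Type u) [Group G] : Prop :=
  ∃ χ : Cfsg.IrrCharacter G, p ∣ deg (χ : G → ℂ)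

theorem deg_dvd_index (χ : Cfsg.IrrCharacter G) (K : Subgroup G) [K.Normal]
    (hK : ∀ a ∈ K, ∀ b ∈ K, a * b = b * a) : deg (χ : G → ℂ) ∣ K.index := by
  obtain ⟨m, ρ, hρ, hρχ⟩ := χ.2
  haveI := hρ
  have hd := Cfsg.Agent.S0169.result ρ K hK
  have hdd : deg (χ : G → ℂ) = Module.finrank ℂ (Fin m → ℂ) := by
    apply Nat.cast_injective (R := ℂ)
    rw [← irr_apply_one_eq_deg χ, ← hρχ, ρ.char_one]
  rwa [hdd]

theorem not_hasDeg {p : ℕ} (K : Subgroup G) [K.Normal]
    (hK : ∀ a ∈ K, ∀ b ∈ K, a * b = b * a) (hp : ¬ p ∣ K.index) : ¬ HasDeg p G := fun ⟨χ, h⟩ =>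
  hp (h.trans (deg_dvd_index χ K hK))

theorem comm_sup {A B : Subgroup G} (hA : ∀ a ∈ A, ∀ b ∈ A, a * b = b * a)
    (hB : ∀ a ∈ B, ∀ b ∈ B, a * b = b * a) (hAB : ∀ a ∈ A, ∀ b ∈ B, a * b = b * a) :
    ∀ a ∈ A ⊔ B, ∀ b ∈ A ⊔ B, a * b = b * a := by
  intro a ha b hb
  have h1 : A ≤ centralizer ((A ⊔ B : Subgroup G) : Set G) := by
    rw [le_centralizer_iff, sup_le_iff]
    exact ⟨fun x hx => mem_centralizer_iff.2 fun y hy => hA y hy x hx,
      fun x hx => mem_centralizer_iff.2 fun y hy => hAB y hy x hx⟩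
  have h2 : B ≤ centralizer ((A ⊔ B : Subgroup G) : Set G) := by
    rw [le_centralizer_iff, sup_le_iff]
    exact ⟨fun x hx => mem_centralizer_iff.2 fun y hy => (hAB x hx y hy).symm,
      fun x hx => mem_centralizer_iff.2 fun y hy => hB y hy x hx⟩
  exact (mem_centralizer_iff.1 (sup_le h1 h2 ha) b hb).symm

variable {N H : Subgroup G}

theorem Split.mem_eq_one (hs : Split N H) {x : G} (h1 : x ∈ N) (h2 : x ∈ H) : x = 1 := by
  have h : x ∈ N ⊓ H := ⟨h1, h2⟩
  rwa [hs.inf, mem_bot] at h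

theorem Split.index_dvd [N.Normal] (hs : Split N H) (K : Subgroup G) [K.Normal] {J : Subgroup G}
    (hJ : J ≤ K) {S : Subgroup H} (hS : S.map H.subtype ≤ K) :
    K.index ∣ S.index * J.relIndex N := by
  have h1 : K.relIndex (N ⊔ K) * (N ⊔ K).index = K.index := relIndex_mul_index le_sup_right
  have h2 : (N ⊔ K).index = (N ⊔ K).relIndex H := by
    haveI : (N ⊔ K).Normal := inferInstance
    have h3 : H ⊔ (N ⊔ K) = ⊤ := by
      rw [eq_top_iff, ← hs.sup]
      exact sup_le (le_sup_left.trans le_sup_right) le_sup_left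
    rw [← relIndex_sup_right (H := H) (K := N ⊔ K), h3, relIndex_top_right]
  have h4 : (S.map H.subtype).relIndex H = S.index := by
    rw [← relIndex_top_right, ← relIndex_map_map_of_injective _ _ H.subtype_injective,
      ← MonoidHom.range_eq_map, range_subtype]
  rw [← h1, relIndex_sup_right, h2, mul_comm, ← h4]
  exact Nat.mul_dvd_mul (relIndex_dvd_of_le_left H (hS.trans le_sup_right))
    (relIndex_dvd_of_le_left N hJ)

/-- A centralised normal abelian Sylow subgroup of the complement forbids its prime. -/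
theorem Split.not_hasDeg [N.Normal] (hs : Split N H) {r : ℕ} [hr : Fact r.Prime] (S : Sylow r H)
    (hSn : (S : Subgroup H).Normal) (hSa : IsMulCommutative (S : Subgroup H))
    (hcent : ∀ y ∈ (S : Subgroup H), ∀ x ∈ N, (y : G) * x = x * y)
    (J : Subgroup G) [J.Normal] (hJN : J ≤ N) (hJa : ∀ a ∈ J, ∀ b ∈ J, a * b = b * a)
    (hJ : ¬ r ∣ J.relIndex N) : ¬ HasDeg r G := by
  set S' := (S : Subgroup H).map H.subtype with hS'
  haveI : S'.Normal := by
    rw [← normalizer_eq_top_iff, eq_top_iff, ← hs.sup, sup_le_iff]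
    refine ⟨?_, ?_⟩
    · intro x hx
      refine centralizer_le_normalizer _ (mem_centralizer_iff.2 ?_)
      rintro _ ⟨y, hy, rfl⟩
      exact hcent y hy x hx
    · intro x hx
      refine Coprime.mem_normalizer_of_conj_mem ?_ ?_ <;> rintro _ ⟨y, hy, rfl⟩
      · exact ⟨⟨x, hx⟩ * y * ⟨x, hx⟩⁻¹, hSn.conj_mem y hy _, rfl⟩
      · exact ⟨⟨x, hx⟩⁻¹ * y * ⟨x, hx⟩, by
          have := hSn.conj_mem y hy (⟨x, hx⟩⁻¹)
          rwa [inv_inv] at this, rfl⟩
  refine Palfy.not_hasDeg (J ⊔ S') (comm_sup hJa ?_ ?_) fun h => ?_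
  · rintro _ ⟨a, ha, rfl⟩ _ ⟨b, hb, rfl⟩
    exact congrArg (fun z : (S : Subgroup H) => ((z : H) : G)) (hSa.is_comm.comm ⟨a, ha⟩ ⟨b, hb⟩)
  · rintro a ha _ ⟨y, hy, rfl⟩
    exact (hcent y hy a (hJN ha)).symm
  · rcases hr.out.dvd_mul.1 (h.trans (hs.index_dvd (J ⊔ S') le_sup_left le_sup_right)) with h' | h'
    · exact S.not_dvd_index h'
    · exact hJ h'

/-- A linear character of a finite group is one of finitely many. -/
instance instFiniteHom (A : Type u) [Group A] [Finite A] : Finite (A →* ℂˣ) := by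
  refine Finite.of_injective (fun f => (⟨fun g => (f g : ℂ), isIrrCharacter_linear f⟩ :
    Cfsg.IrrCharacter A)) fun f g h => ?_
  exact MonoidHom.ext fun x => Units.ext (congrFun (congrArg Subtype.val h) x)

/-- Linear characters separate modulo the derived group. -/
theorem mem_commutator_of_forall {A : Type u} [Group A] [Finite A] {a : A}
    (h : ∀ f : A →* ℂˣ, f a = 1) : a ∈ _root_.commutator A := by
  by_contra ha
  obtain ⟨φ, hφ⟩ := CommGroup.exists_apply_ne_one_of_hasEnoughRootsOfUnity (Abelianization A) ℂ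
    (a := Abelianization.of a) (fun h1 => ha ((QuotientGroup.eq_one_iff a).1 h1))
  exact hφ (h (φ.comp Abelianization.of))

theorem eq_one_of_forall {A : Type u} [Group A] [Finite A] (hA : ∀ a b : A, a * b = b * a) {a : A}
    (h : ∀ f : A →* ℂˣ, f a = 1) : a = 1 := by
  have hb : _root_.commutator A = ⊥ := by
    rw [commutator_eq_closure, closure_eq_bot_iff]
    rintro _ ⟨x, y, rfl⟩
    exact commutatorElement_eq_one_iff_mul_comm.2 (hA x y)
  simpa [hb] using mem_commutator_of_forall h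

theorem card_dual {A : Type u} [Group A] [Finite A] (hA : ∀ a b : A, a * b = b * a) :
    Nat.card (A →* ℂˣ) = Nat.card A := by
  letI : CommGroup A := { mul_comm := hA }
  exact CommGroup.card_monoidHom_of_hasEnoughRootsOfUnity A ℂ

variable [N.Normal] (hs : Split N H)

/-- The action of the complement on linear characters. -/
def complAct (N H : Subgroup G) [N.Normal] : H →* MulAut (N →* ℂˣ) := (dualAct N).comp H.subtype

theorem stab_complAct (μ : N →* ℂˣ) :
    stab (complAct N H) μ = (inertia N (fun n => (μ n : ℂ))).comap H.subtype := by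
  ext x
  rw [mem_stab, mem_comap, mem_inertia_iff_dual]
  rfl

/-- Fixing every linear character is centralising. -/
theorem commute_of_fixes (hA : ∀ a b : N, a * b = b * a) {y : G}
    (h : ∀ μ : N →* ℂˣ, dualAct N y μ = μ) {x : G} (hx : x ∈ N) : y * x = x * y := by
  have h1 : ∀ μ : N →* ℂˣ, μ ((MulAut.conjNormal y⁻¹ (⟨x, hx⟩ : N)) * ⟨x, hx⟩⁻¹) = 1 := fun μ => by
    rw [map_mul, ← dualAct_apply, h, ← map_mul, mul_inv_cancel, map_one]
  have h2 := mul_inv_eq_one.1 (eq_one_of_forall hA h1)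
  have h3 := congrArg Subtype.val h2
  simp only [MulAut.conjNormal_apply, inv_inv] at h3
  calc y * x = y * (y⁻¹ * x * y) := by rw [h3]
    _ = x * y := by group

end Cfsg.Lib.Palfy
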