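import Mathlib
import Cfsg.Agent.Blocks.Palfy.Dual

/-!
# Three primes: the coprime case
-/

set_option autoImplicit false
set_option linter.unusedSectionVars false
set_option linter.style.haveILetI false

namespace Cfsg.Lib.Palfy

open Cfsg.Lib.Chars Cfsg.Lib.Blocks Subgroup
open scoped Pointwise commutatorElement

universe u

variable {G : Type u} [Group G] [Finite G]

theorem isMulCommutative_of_one {r : ℕ} [Fact r.Prime] {S : Sylow r G}
    (hS : IsMulCommutative (S : Subgroup G)) (T : Sylow r G) : IsMulCommutative (T : Subgroup G) := by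
  refine ⟨⟨fun a b => ?_⟩⟩
  obtain ⟨g, rfl⟩ := MulAction.exists_smul_eq G S T
  obtain ⟨_, a, ha, rfl⟩ := a
  obtain ⟨_, b, hb, rfl⟩ := b
  have h : a * b = b * a := congrArg Subtype.val (hS.is_comm.comm ⟨a, ha⟩ ⟨b, hb⟩)
  apply Subtype.ext
  simp only [Subgroup.coe_mul, MulDistribMulAction.toMonoidEnd_apply,
    MulDistribMulAction.toMonoidHom_apply]
  rw [← smul_mul', ← smul_mul', h]

/-- A Sylow subgroup of the complement fixing every character centralises. -/
theorem commute_of_normal {N H : Subgroup G} [N.Normal] {r : ℕ} [Fact r.Prime]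
    (hN : ∀ a b : N, a * b = b * a) (hc : Cells (V := N →* ℂˣ) (complAct N H) r)
    (S : Sylow r H) (hSn : (S : Subgroup H).Normal) {y : H} (hy : y ∈ (S : Subgroup H))
    {x : G} (hx : x ∈ N) : (y : G) * x = x * y := by
  refine commute_of_fixes hN (fun μ => ?_) hx
  by_cases hμ : μ = 1
  · subst hμ; exact map_one _
  obtain ⟨T, hT, -⟩ := hc μ hμ
  have h : S = T := eq_of_le_normalizer S T (by
    haveI := Sylow.unique_of_normal S hSn
    rw [Subsingleton.elim T S]
    exact Subgroup.le_normalizer)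
  exact hT (h ▸ hy)

theorem caseB [hsol : Group.IsSolvable G] {w p q r : ℕ} (hw : w.Prime) [hp : Fact p.Prime]
    [hq : Fact q.Prime] [hr : Fact r.Prime] (hpw : p ≠ w) (hqr : q ≠ r)
    (N : Subgroup G) [N.Normal] (hne : N ≠ ⊥) (hab : ∀ a ∈ N, ∀ b ∈ N, a * b = b * a)
    (hNw : IsPGroup w N) (hmin : ∀ M : Subgroup G, M.Normal → M ≤ N → M = ⊥ ∨ M = N)
    (P : Sylow p G) (hPn : ((P : Subgroup G) ⊔ N).Normal)
    (hPab : ∀ a ∈ (P : Subgroup G), ∀ b ∈ (P : Subgroup G), a * b * a⁻¹ * b⁻¹ ∈ N)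
    (hnpq : NoProd p q G) (hnpr : NoProd p r G) (hnqr : NoProd q r G)
    (hdp : HasDeg p G) (hdq : HasDeg q G) (hdr : HasDeg r G) : False := by
  classical
  haveI := Fintype.ofFinite G
  haveI := Fintype.ofFinite N
  haveI := Fact.mk hw
  haveI : ((P : Subgroup G) ⊔ N).Normal := hPn
  have hPN : (P : Subgroup G) ⊓ N = ⊥ :=
    (IsPGroup.disjoint_of_ne p w hpw _ _ P.isPGroup' hNw).eq_bot
  have hone : ∀ {x : G}, x ∈ (P : Subgroup G) → x ∈ N → x = 1 := fun {x} h1 h2 => by
    have h : x ∈ (P : Subgroup G) ⊓ N := ⟨h1, h2⟩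
    rwa [hPN, mem_bot] at h
  have hPc : ∀ a ∈ (P : Subgroup G), ∀ b ∈ (P : Subgroup G), a * b = b * a := fun a ha b hb => by
    have h := hone (show a * b * a⁻¹ * b⁻¹ ∈ (P : Subgroup G) by aesop) (hPab a ha b hb)
    rwa [mul_inv_eq_one, mul_inv_eq_iff_eq_mul] at h
  set H := normalizer ((P : Subgroup G) : Set G) with hH
  have hPH : (P : Subgroup G) ≤ H := Subgroup.le_normalizer
  have hsup : N ⊔ H = ⊤ := by
    rw [eq_top_iff, ← P.normalizer_sup_eq_top' (N := (P : Subgroup G) ⊔ N) le_sup_left]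
    exact sup_le le_sup_right (sup_le (hPH.trans le_sup_right) le_sup_left)
  have hNP : N ⊓ centralizer ((P : Subgroup G) : Set G) = ⊥ := by
    have hMn : (N ⊓ centralizer ((P : Subgroup G) : Set G)).Normal := by
      rw [← normalizer_eq_top_iff, eq_top_iff, ← hsup, sup_le_iff]
      refine ⟨fun n hn => centralizer_le_normalizer _ (mem_centralizer_iff.2 fun m hm => hab m hm.1 n hn),
        fun h hh => ?_⟩
      have key : ∀ g ∈ H, ∀ m ∈ N ⊓ centralizer ((P : Subgroup G) : Set G),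
          g * m * g⁻¹ ∈ N ⊓ centralizer ((P : Subgroup G) : Set G) := by
        rintro g hg m ⟨hm1, hm2⟩
        refine ⟨‹N.Normal›.conj_mem m hm1 g, mem_centralizer_iff.2 fun y hy => ?_⟩
        have h1 : g⁻¹ * y * g ∈ (P : Subgroup G) := (mem_normalizer_iff''.1 hg y).1 hy
        calc y * (g * m * g⁻¹) = g * ((g⁻¹ * y * g) * m) * g⁻¹ := by group
          _ = g * (m * (g⁻¹ * y * g)) * g⁻¹ := by rw [mem_centralizer_iff.1 hm2 _ h1]
          _ = g * m * g⁻¹ * y := by group
      exact Coprime.mem_normalizer_of_conj_mem (key h hh)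
        (fun m hm => by simpa using key h⁻¹ (H.inv_mem hh) m hm)
    rcases hmin _ hMn inf_le_left with h | h
    · exact h
    exfalso
    refine not_hasDeg ((P : Subgroup G) ⊔ N) (comm_sup hPc hab fun y hy n hn => ?_) (fun hd => ?_) hdp
    · exact mem_centralizer_iff.1 (h.ge hn).2 y hy
    · exact P.not_dvd_index (hd.trans (index_dvd_of_le le_sup_left))
  have hs : Split N H := by
    refine ⟨hsup, eq_bot_iff.2 fun n hn => ?_⟩
    rw [← hNP]
    refine ⟨hn.1, mem_centralizer_iff.2 fun y hy => ?_⟩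
    have h1 : n * y * n⁻¹ * y⁻¹ = 1 := hone
      ((P : Subgroup G).mul_mem ((mem_normalizer_iff.1 hn.2 y).1 hy) ((P : Subgroup G).inv_mem hy))
      (by
        rw [show n * y * n⁻¹ * y⁻¹ = n * (y * n⁻¹ * y⁻¹) by group]
        exact N.mul_mem hn.1 (‹N.Normal›.conj_mem _ (N.inv_mem hn.1) y))
    rw [mul_inv_eq_one, mul_inv_eq_iff_eq_mul] at h1
    exact h1.symm
  -- `P` moves every non-trivial character
  have hmove : ∀ lam : N →* ℂˣ, lam ≠ 1 → p ∣ (inertia N (fun n => (lam n : ℂ))).index := by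
    intro lam hlam
    by_contra hd
    set T := inertia N (fun n => (lam n : ℂ)) with hT
    obtain ⟨P₁, hP₁⟩ := SylowNorm.exists_sylow_le (p := p) T hd
    obtain ⟨g, rfl⟩ := MulAction.exists_smul_eq G P P₁
    obtain ⟨n, hn, h, hh, rfl⟩ := Subgroup.mem_sup_of_normal_left.1 (hs.sup ▸ mem_top g : g ∈ N ⊔ H)
    have hNT : N ≤ T := le_inertia (isClassFunction_irr ⟨_, isIrrCharacter_linear lam⟩)
    rw [mul_smul, Sylow.smul_eq_iff_mem_normalizer.2 hh] at hP₁
    have hPT : (P : Subgroup G) ≤ T := fun y hy => by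
      have h1 : n * y * n⁻¹ ∈ T := hP₁ ⟨y, hy, rfl⟩
      rw [show y = n⁻¹ * (n * y * n⁻¹) * n by group]
      exact T.mul_mem (T.mul_mem (T.inv_mem (hNT hn)) h1) (hNT hn)
    haveI : IsMulCommutative N := ⟨⟨fun a b => Subtype.ext (hab a a.2 b b.2)⟩⟩
    have hdec := (Cfsg.Lib.Coprime.abelian_coprime_decomp (A := (P : Subgroup G)) (V := N)
      Subgroup.le_normalizer_of_normal
      (IsPGroup.coprime_card_of_ne p w hpw _ _ P.isPGroup' hNw)).2
    rw [hNP, bot_sup_eq] at hdec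
    have hle : ⁅N, (P : Subgroup G)⁆ ≤ lam.ker.map N.subtype := by
      rw [commutator_le]
      intro a ha y hy
      refine ⟨⟨a, ha⟩ * MulAut.conjNormal y (⟨a, ha⟩⁻¹), ?_, ?_⟩
      · have h1 := (mem_inertia_iff_dual y⁻¹ lam).1 (T.inv_mem (hPT hy))
        have h2 := DFunLike.congr_fun h1 ((⟨a, ha⟩ : N)⁻¹)
        rw [dualAct_apply, inv_inv] at h2
        rw [SetLike.mem_coe, MonoidHom.mem_ker, map_mul lam, h2, map_inv, mul_inv_cancel]
      · simp [commutatorElement_def, MulAut.conjNormal_apply, mul_assoc]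
    refine hlam (MonoidHom.ext fun x => ?_)
    obtain ⟨y, hy, hyx⟩ := hle (hdec.symm ▸ x.2 : (x : G) ∈ ⁅N, (P : Subgroup G)⁆)
    rw [← Subtype.ext (show (y : G) = (x : G) from hyx)]
    exact hy
  have hstruct : ∀ {a : ℕ} [Fact a.Prime], NoProd p a G → ∀ lam : N →* ℂˣ, lam ≠ 1 →
      ∃ S : Sylow a H, (S : Subgroup H) ≤ stab (complAct N H) lam ∧
        stab (complAct N H) lam ≤ normalizer ((S : Subgroup H) : Set H) ∧
        IsMulCommutative (S : Subgroup H) := by
    intro a _ hno lam hlam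
    haveI := Fintype.ofFinite (inertia N (fun n => (lam n : ℂ)))
    obtain ⟨hNT, η, hη, hres⟩ := linear_extension hs lam
    rw [stab_complAct]
    exact stab_structure hs hno (isIrrCharacter_linear lam) hNT hη hres
      (dvd_mul_of_dvd_left (hmove lam hlam) _)
  have hcq : Cells (V := N →* ℂˣ) (complAct N H) q := fun v hv => by
    obtain ⟨S, h1, h2, -⟩ := hstruct hnpq v hv
    exact ⟨S, h1, h2⟩
  have hcr : Cells (V := N →* ℂˣ) (complAct N H) r := fun v hv => by
    obtain ⟨S, h1, h2, -⟩ := hstruct hnpr v hv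
    exact ⟨S, h1, h2⟩
  have hN2 : ∀ a b : N, a * b = b * a := fun a b => Subtype.ext (hab a a.2 b b.2)
  obtain ⟨m, hm⟩ := IsPGroup.iff_card.1 hNw
  have hcard : Nat.card (N →* ℂˣ) = w ^ m := (card_dual hN2).trans hm
  have hV : ∃ v : N →* ℂˣ, v ≠ 1 := by
    by_contra hall
    push Not at hall
    refine hne ((Subgroup.eq_bot_iff_forall N).2 fun x hx => ?_)
    exact congrArg Subtype.val (eq_one_of_forall hN2 (a := ⟨x, hx⟩) fun f => by
      rw [hall f, MonoidHom.one_apply])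
  obtain ⟨v, hv⟩ := hV
  obtain ⟨Sq, -, -, hSq⟩ := hstruct hnpq v hv
  obtain ⟨Sr, -, -, hSr⟩ := hstruct hnpr v hv
  obtain ⟨f, hf1, -, -⟩ := hs.exists_proj
  have hfin : ∀ {a : ℕ} [Fact a.Prime], Cells (V := N →* ℂˣ) (complAct N H) a → HasDeg a G → ∀ S : Sylow a H,
      IsMulCommutative (S : Subgroup H) → (S : Subgroup H).Normal → False := by
    intro a _ hc hd S hSa hSn
    refine hs.not_hasDeg S hSn hSa (fun y hy x hx => commute_of_normal hN2 hc S hSn hy hx)
      N le_rfl hab ?_ hd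
    rw [relIndex_self]
    exact (Fact.out : a.Prime).not_dvd_one
  rcases core (complAct N H) hw hqr (IsPGroup.of_card hcard) ⟨v, hv⟩ hcq hcr
      (fun S => isMulCommutative_of_one hSq S) (fun S => isMulCommutative_of_one hSr S)
      (hnqr.of_surjective f fun h => ⟨h, hf1 h⟩) with ⟨S, hS⟩ | ⟨S, hS⟩
  · exact hfin hcq hdq S (isMulCommutative_of_one hSq S) hS
  · exact hfin hcr hdr S (isMulCommutative_of_one hSr S) hS

end Cfsg.Lib.Palfy
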