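import Mathlib
import Cfsg.Agent.Blocks.Palfy.Dual
import Cfsg.Agent.Blocks.GlaubermanSolvable
import Cfsg.Agent.Chars.ScalarVanish

/-!
# Characters of a Sylow subgroup over a central character
-/

set_option autoImplicit false
set_option linter.unusedSectionVars false
set_option linter.style.haveILetI false

namespace Cfsg.Lib.Palfy

open Cfsg.Lib.Chars Cfsg.Lib.Blocks Subgroup
open scoped Pointwise commutatorElement

universe u

variable {G : Type u} [Group G] [Finite G]

/-- `θ` restricts to a multiple of `lam`. -/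
def Over {N P : Subgroup G} (hNP : N ≤ P) (lam : N →* ℂˣ) (θ : P → ℂ) : Prop :=
  ∀ n : N, θ (Subgroup.inclusion hNP n) = θ 1 * (lam n : ℂ)

variable {N P : Subgroup G} [N.Normal] [P.Normal] (hNP : N ≤ P)

/-- An invariant character over an invariant central character. -/
theorem exists_invariant_over [Fintype P] (hcent : ∀ n ∈ N, ∀ x ∈ P, n * x = x * n)
    (lam : N →* ℂˣ) (X : Subgroup G) [Group.IsSolvable X]
    (hcop : (Nat.card P).Coprime (Nat.card X)) (hfix : ∀ x ∈ X, dualAct N x lam = lam) :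
    ∃ θ : Cfsg.IrrCharacter P, Over hNP lam (θ : P → ℂ) ∧ X ≤ inertia P (θ : P → ℂ) := by
  classical
  set N' := N.subgroupOf P with hN'
  haveI : N'.Normal := Subgroup.normal_subgroupOf
  haveI := Fintype.ofFinite N'
  let e := Subgroup.subgroupOfEquivOfLe hNP
  let l : N' →* ℂˣ := lam.comp e.toMonoidHom
  let c : X →* MulAut P := ((MulAut.conjNormal (H := P)).comp X.subtype)
  have hsol : Group.IsSolvable c.range :=
    Group.isSolvable_of_surjective c.rangeRestrict_surjective
  have hcard : Nat.card c.range ∣ Nat.card X :=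
    Subgroup.card_range_dvd c
  have hAN : ∀ a ∈ c.range, ∀ x ∈ N', a x ∈ N' := by
    rintro _ ⟨a, rfl⟩ x hx
    rw [hN', mem_subgroupOf] at hx ⊢
    show ((MulAut.conjNormal (H := P) (a : G) x : P) : G) ∈ N
    rw [MulAut.conjNormal_apply]
    exact ‹N.Normal›.conj_mem _ hx _
  obtain ⟨θ, hθc, hθA⟩ := Glauberman.exists_inv_over (Nat.card c.range) P c.range N' rfl hsol
    (hcop.coprime_dvd_right hcard) hAN ⟨_, isIrrCharacter_linear l⟩ (by
      rintro _ ⟨a, rfl⟩ x
      have h1 := DFunLike.congr_fun (hfix (a : G)⁻¹ (X.inv_mem a.2)) (e x)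
      rw [dualAct_apply, inv_inv] at h1
      show ((lam (e ⟨MulAut.conjNormal (H := P) (a : G) x, _⟩) : ℂˣ) : ℂ) = (lam (e x) : ℂ)
      rw [← h1]
      congr 2)
  have hinv : ∀ g : P, conjN N' g (fun x => (l x : ℂ)) = fun x => (l x : ℂ) := by
    intro g
    funext x
    rw [conjN_eq_comp]
    refine congrArg (fun z : N' => ((l z : ℂˣ) : ℂ)) (Subtype.ext (Subtype.ext ?_))
    rw [MulAut.conjNormal_apply, Subgroup.coe_mul, Subgroup.coe_mul, Subgroup.coe_inv,
      ← hcent _ (mem_subgroupOf.1 x.2) _ g.2]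
    group
  obtain ⟨m, -, hm⟩ := restrict_eq_mult_of_invariant N' θ.2 (isIrrCharacter_linear l) hinv hθc
  have h1 : (θ : P → ℂ) 1 = m := by
    have h2 := congrFun hm 1
    simpa using h2
  refine ⟨θ, fun n => ?_, fun x hx => ?_⟩
  · have h2 := congrFun hm (e.symm n)
    simp only [Pi.smul_apply, smul_eq_mul] at h2
    rw [h1]
    show (θ : P → ℂ) (Subgroup.inclusion hNP n) = _
    rw [show lam n = l (e.symm n) by simp [l]]
    exact h2
  · refine mem_inertia.2 (funext fun g => ?_)
    rw [conjN_eq_comp]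
    exact hθA _ ⟨⟨x, hx⟩, rfl⟩ g

/-- The inertia group over a central character. -/
theorem inertia_le_of_over (lam : N →* ℂˣ) {θ : P → ℂ} (hθ : Cfsg.IsIrrCharacter P θ)
    (ho : Over hNP lam θ) [Fintype P] [Fintype N] :
    inertia P θ ≤ inertia N (fun n => (lam n : ℂ)) := by
  intro g hg
  refine mem_inertia.2 (funext fun n => ?_)
  have h := congrFun (mem_inertia.1 hg) (Subgroup.inclusion hNP n)
  rw [conjN_eq_comp] at h ⊢
  have h2 : (MulAut.conjNormal g (Subgroup.inclusion hNP n) : P) =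
      Subgroup.inclusion hNP (MulAut.conjNormal g n) := Subtype.ext (by simp [MulAut.conjNormal_apply])
  show ((lam (MulAut.conjNormal g n) : ℂˣ) : ℂ) = _
  change θ (MulAut.conjNormal g (Subgroup.inclusion hNP n)) = θ (Subgroup.inclusion hNP n) at h
  rw [h2, ho, ho] at h
  exact mul_left_cancel₀ (IsIrrCharacter.apply_one_ne_zero hθ) h

/-- A non-trivial central character of the derived group has no linear character above it. -/
theorem dvd_deg_of_over {p : ℕ} [hp : Fact p.Prime] (hPp : IsPGroup p P)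
    (hder : N ≤ (_root_.commutator P).map P.subtype) {lam : N →* ℂˣ} (hlam : lam ≠ 1)
    (θ : Cfsg.IrrCharacter P) (ho : Over hNP lam (θ : P → ℂ)) : p ∣ deg (θ : P → ℂ) := by
  obtain ⟨m, hm⟩ := IsPGroup.iff_card.1 hPp
  obtain ⟨j, -, hj⟩ := (Nat.dvd_prime_pow hp.out).1 (hm ▸ IsIrrCharacter.deg_dvd θ.2)
  rcases Nat.eq_zero_or_pos j with rfl | hpos
  · exfalso
    have h1 : (θ : P → ℂ) 1 = 1 := by rw [irr_apply_one_eq_deg θ, hj, pow_zero, Nat.cast_one]
    obtain ⟨f, hf⟩ := exists_hom_of_deg_one (isCharacter_of_irr θ.2) h1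
    refine hlam (MonoidHom.ext fun n => ?_)
    obtain ⟨y, hy, hyn⟩ := hder n.2
    have h2 : Subgroup.inclusion hNP n = y := Subtype.ext hyn.symm
    have h3 := ho n
    rw [h1, one_mul, hf, h2] at h3
    have h4 : f y = 1 := Abelianization.commutator_subset_ker f hy
    simp only [h4, Units.val_one] at h3
    exact Units.ext h3.symm
  · rw [hj]
    exact dvd_pow_self p hpos.ne'

/-- Elements commuting up to a coprime twist commute. -/
theorem commute_of_twist {a b : ℕ} {y z u : G} (hy : y ^ a = 1) (hu : u ^ b = 1) (hab : a.Coprime b)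
    (hyu : y * u = u * y) (h : y * z * y⁻¹ = z * u) : y * z = z * y := by
  have hk : ∀ k : ℕ, y ^ k * z * (y ^ k)⁻¹ = z * u ^ k := by
    intro k
    induction k with
    | zero => simp
    | succ k ih =>
      calc y ^ (k + 1) * z * (y ^ (k + 1))⁻¹ = y * (y ^ k * z * (y ^ k)⁻¹) * y⁻¹ := by
            rw [pow_succ']; group
        _ = (y * z * y⁻¹) * (y * u ^ k * y⁻¹) := by rw [ih]; group
        _ = z * u * u ^ k := by
          rw [h, (show Commute y u from hyu).pow_right k |>.eq, mul_inv_cancel_right]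
        _ = z * u ^ (k + 1) := by rw [pow_succ']; group
  have h1 := hk a
  rw [hy, one_mul, inv_one, mul_one, left_eq_mul] at h1
  have h2 : u ^ a.gcd b = 1 := pow_gcd_eq_one.2 ⟨h1, hu⟩
  rw [hab, pow_one] at h2
  rw [h2, mul_one] at h
  exact mul_inv_eq_iff_eq_mul.1 h

end Cfsg.Lib.Palfy
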