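import Mathlib
import Cfsg.Agent.Blocks.Palfy.CaseB
import Cfsg.Agent.Blocks.Palfy.Over

/-!
# Three primes: the nonabelian Sylow case
-/

set_option autoImplicit false
set_option linter.unusedSectionVars false
set_option linter.style.haveILetI false

namespace Cfsg.Lib.Palfy

open Cfsg.Lib.Chars Cfsg.Lib.Blocks Subgroup
open scoped Pointwise commutatorElement

universe u

variable {G : Type u} [Group G] [Finite G]

/-- The standing hypotheses of the second case. -/
structure SetA (p : ℕ) (P N H : Subgroup G) : Prop where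
  split : Split P H
  isP : IsPGroup p P
  cop : (Nat.card P).Coprime (Nat.card H)
  ne : N ≠ ⊥
  le : N ≤ P
  central : ∀ n ∈ N, ∀ x ∈ P, n * x = x * n
  comm : ∀ a ∈ P, ∀ b ∈ P, a * b * a⁻¹ * b⁻¹ ∈ N
  der : N ≤ (_root_.commutator P).map P.subtype

variable {p : ℕ} [hp : Fact p.Prime] {P N H : Subgroup G} [P.Normal] [N.Normal]

theorem SetA.index_eq (h : SetA p P N H) : P.index = Nat.card H := by
  have h1 : IsComplement' H P := (isComplement'_of_disjoint_and_mul_eq_univ
    (disjoint_iff.2 h.split.inf) (by rw [← Subgroup.normal_mul, h.split.sup, coe_top])).symm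
  exact h1.index_eq_card

theorem SetA.comm_N (h : SetA p P N H) : ∀ a b : N, a * b = b * a := fun a b =>
  Subtype.ext (h.central a a.2 b (h.le b.2))

theorem SetA.hcop' (h : SetA p P N H) : (Nat.card P).Coprime P.index := h.index_eq ▸ h.cop

/-- The derived subgroup is inside `N`. -/
theorem SetA.commutator_le (h : SetA p P N H) : (_root_.commutator P).map P.subtype ≤ N := by
  rw [_root_.commutator_def, map_commutator, ← MonoidHom.range_eq_map, range_subtype,
    Subgroup.commutator_le]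
  intro a ha b hb
  exact h.comm a ha b hb

/-- Structure of the stabiliser of an irreducible character of `P`. -/
theorem SetA.structure_of_dvd [Group.IsSolvable G] (h : SetA p P N H) {a b : ℕ} [Fact b.Prime]
    (hno : NoProd a b G) [Fintype P] (θ : Cfsg.IrrCharacter P)
    (ha : a ∣ (inertia P (θ : P → ℂ)).index * deg (θ : P → ℂ)) :
    ∃ S : Sylow b H, (S : Subgroup H) ≤ (inertia P (θ : P → ℂ)).comap H.subtype ∧
      (inertia P (θ : P → ℂ)).comap H.subtype ≤ normalizer ((S : Subgroup H) : Set H) ∧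
      IsMulCommutative (S : Subgroup H) := by
  classical
  haveI := Fintype.ofFinite G
  haveI := Fintype.ofFinite (inertia P (θ : P → ℂ))
  obtain ⟨hPT, η, hη, hres⟩ := coprime_extension h.hcop' θ
  exact stab_structure h.split hno θ.2 hPT hη hres ha

/-- Invariant characters give cells on the centre. -/
theorem SetA.cells [Group.IsSolvable G] (h : SetA p P N H) {b : ℕ} [Fact b.Prime]
    (hno : NoProd p b G) (lam : N →* ℂˣ) (hlam : lam ≠ 1) :
    ∃ S : Sylow b H, (S : Subgroup H) ≤ stab (complAct N H) lam ∧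
      stab (complAct N H) lam ≤ normalizer ((S : Subgroup H) : Set H) ∧
      IsMulCommutative (S : Subgroup H) := by
  classical
  haveI := Fintype.ofFinite G
  haveI := Fintype.ofFinite P
  haveI := Fintype.ofFinite N
  rw [stab_complAct]
  set X := ((inertia N (fun n => (lam n : ℂ))).comap H.subtype).map H.subtype with hX
  haveI : Group.IsSolvable X := inferInstance
  have hXH : X ≤ H := map_subtype_le _
  obtain ⟨θ, ho, hθX⟩ := exists_invariant_over h.le h.central lam X
    (h.cop.coprime_dvd_right (Subgroup.card_dvd_of_le hXH)) (by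
      rintro _ ⟨y, hy, rfl⟩
      exact (mem_inertia_iff_dual _ lam).1 hy)
  have heq : (inertia N (fun n => (lam n : ℂ))).comap H.subtype =
      (inertia P (θ : P → ℂ)).comap H.subtype :=
    le_antisymm (fun y hy => hθX ⟨y, hy, rfl⟩) (comap_mono (inertia_le_of_over h.le lam θ.2 ho))
  rw [heq]
  exact h.structure_of_dvd hno θ
    (dvd_mul_of_dvd_right (dvd_deg_of_over h.le h.isP h.der hlam θ ho) _)

theorem SetA.comap_index (h : SetA p P N H) {T : Subgroup G} (hPT : P ≤ T) :
    (T.comap H.subtype).index = T.index := by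
  obtain ⟨f, hf1, hf2, -⟩ := h.split.exists_proj
  have hc : (T.comap H.subtype).comap f = T := by
    ext t
    have ht : t = t * ((f t : H) : G)⁻¹ * ((f t : H) : G) := by group
    constructor
    · intro hh
      rw [ht]
      exact T.mul_mem (hPT (hf2 t)) hh
    · intro hh
      show ((f t : H) : G) ∈ T
      rw [show ((f t : H) : G) = (t * ((f t : H) : G)⁻¹)⁻¹ * t by group]
      exact T.mul_mem (T.inv_mem (hPT (hf2 t))) hh
  have := Subgroup.index_comap_of_surjective (T.comap H.subtype) (fun y => ⟨y, hf1 y⟩ : Function.Surjective f)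
  rw [hc] at this
  exact this.symm

/-- Characters of `P` trivial on `C`. -/
def killer (C : Subgroup G) : Subgroup (P →* ℂˣ) where
  carrier := {μ | ∀ c : P, (c : G) ∈ C → μ c = 1}
  one_mem' := fun _ _ => rfl
  mul_mem' := fun {a b} ha hb c hc => by rw [MonoidHom.mul_apply, ha c hc, hb c hc, one_mul]
  inv_mem' := fun {a} ha c hc => by rw [MonoidHom.inv_apply, ha c hc, inv_one]

theorem mem_killer {C : Subgroup G} {μ : P →* ℂˣ} :
    μ ∈ killer (P := P) C ↔ ∀ c : P, (c : G) ∈ C → μ c = 1 := Iff.rfl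

theorem killer_stable {C : Subgroup G} (hC : H ≤ normalizer (C : Set G)) (y : H) {μ : P →* ℂˣ}
    (hμ : μ ∈ killer (P := P) C) : complAct P H y μ ∈ killer (P := P) C := fun c hc => by
  refine hμ _ ?_
  show ((MulAut.conjNormal ((H.subtype y : G))⁻¹ c : P) : G) ∈ C
  rw [MulAut.conjNormal_apply, inv_inv]
  exact (mem_normalizer_iff''.1 (hC y.2) _).1 hc

/-- The action on `killer C`. -/
def killerAct (C : Subgroup G) (hC : H ≤ normalizer (C : Set G)) :
    H →* MulAut (killer (P := P) C) where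
  toFun y :=
    { toFun := fun μ => ⟨complAct P H y μ.1, killer_stable hC y μ.2⟩
      invFun := fun μ => ⟨complAct P H y⁻¹ μ.1, killer_stable hC y⁻¹ μ.2⟩
      left_inv := fun μ => Subtype.ext (by
        show complAct P H y⁻¹ (complAct P H y μ.1) = μ.1
        rw [← MulAut.mul_apply, ← map_mul, inv_mul_cancel, map_one]; rfl)
      right_inv := fun μ => Subtype.ext (by
        show complAct P H y (complAct P H y⁻¹ μ.1) = μ.1
        rw [← MulAut.mul_apply, ← map_mul, mul_inv_cancel, map_one]; rfl)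
      map_mul' := fun μ ν => Subtype.ext (map_mul (complAct P H y) μ.1 ν.1) }
  map_one' := MulEquiv.ext fun μ => Subtype.ext (by
    show complAct P H 1 μ.1 = μ.1
    rw [map_one]; rfl)
  map_mul' a b := MulEquiv.ext fun μ => Subtype.ext (by
    show complAct P H (a * b) μ.1 = complAct P H a (complAct P H b μ.1)
    rw [map_mul]; rfl)

theorem stab_killerAct (C : Subgroup G) (hC : H ≤ normalizer (C : Set G))
    (μ : killer (P := P) C) : stab (killerAct C hC) μ = stab (complAct P H) μ.1 :=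
  Subgroup.ext fun _ => ⟨fun h => congrArg Subtype.val h, fun h => Subtype.ext h⟩

theorem card_killer (C : Subgroup G) [hn : (C.subgroupOf P).Normal]
    (hab : ∀ a b : P ⧸ C.subgroupOf P, a * b = b * a) :
    Nat.card (killer (P := P) C) = (C.subgroupOf P).index := by
  rw [Subgroup.index, ← card_dual hab]
  refine Nat.card_congr
    { toFun := fun μ => QuotientGroup.lift (C.subgroupOf P) μ.1 fun c hc => μ.2 c hc
      invFun := fun f => ⟨f.comp (QuotientGroup.mk' _), fun c hc => by
        show f (QuotientGroup.mk' _ c) = 1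
        rw [QuotientGroup.mk'_apply, (QuotientGroup.eq_one_iff c).2 hc, map_one]⟩
      left_inv := fun μ => rfl
      right_inv := fun f => MonoidHom.ext fun x => by
        obtain ⟨c, rfl⟩ := QuotientGroup.mk_surjective x
        rfl }

/-- With a normal Sylow `q`-subgroup in the complement there is a contradiction. -/
theorem SetA.false_of_normal [Group.IsSolvable G] (h : SetA p P N H) {q r : ℕ} [hq : Fact q.Prime]
    [hr : Fact r.Prime] (hpq : p ≠ q) (hpr : p ≠ r) (hnpq : NoProd p q G) (hnpr : NoProd p r G)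
    (hnqr : NoProd q r G) (hdq : HasDeg q G) (hdr : HasDeg r G) (Q : Sylow q H)
    (hQn : (Q : Subgroup H).Normal) (hQa : IsMulCommutative (Q : Subgroup H)) : False := by
  classical
  haveI := Fintype.ofFinite G
  haveI := Fintype.ofFinite P
  haveI := Fintype.ofFinite N
  haveI := Sylow.unique_of_normal Q hQn
  obtain ⟨m, hm⟩ := IsPGroup.iff_card.1 h.isP
  have hcq : Cells (V := N →* ℂˣ) (complAct N H) q := fun v hv => by
    obtain ⟨S, h1, h2, -⟩ := h.cells hnpq v hv
    exact ⟨S, h1, h2⟩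
  have hcr : Cells (V := N →* ℂˣ) (complAct N H) r := fun v hv => by
    obtain ⟨S, h1, h2, -⟩ := h.cells hnpr v hv
    exact ⟨S, h1, h2⟩
  have hQN : ∀ y ∈ (Q : Subgroup H), ∀ x ∈ N, (y : G) * x = x * y := fun y hy x hx =>
    commute_of_normal h.comm_N hcq Q hQn hy hx
  have hnd : ∀ {a : ℕ} [Fact a.Prime], p ≠ a → HasDeg a G → ∀ S : Sylow a H,
      (S : Subgroup H).Normal → IsMulCommutative (S : Subgroup H) →
      (∀ y ∈ (S : Subgroup H), ∀ x ∈ P, (y : G) * x = x * y) → False := by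
    intro a _ hpa hd S hSn hSa hc
    refine h.split.not_hasDeg S hSn hSa hc ⊥ bot_le (fun x hx y hy => ?_) ?_ hd
    · rw [mem_bot.1 hx, mem_bot.1 hy]
    · rw [relIndex_bot_left, hm]
      exact fun hdvd => hpa ((Nat.prime_dvd_prime_iff_eq Fact.out hp.out).1
        ((Fact.out : a.Prime).dvd_of_dvd_pow hdvd)).symm
  -- `Q` and its centraliser in `P`
  set Q' := (Q : Subgroup H).map H.subtype with hQ'
  have hQmem : ∀ y ∈ (Q : Subgroup H), (y : G) ∈ Q' := fun y hy => mem_map_of_mem _ hy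
  have hQQ : ∀ (t : H), ∀ y ∈ (Q : Subgroup H), t⁻¹ * y * t ∈ (Q : Subgroup H) := fun t y hy => by
    have := hQn.conj_mem y hy t⁻¹
    rwa [inv_inv] at this
  set C := P ⊓ centralizer (Q' : Set G) with hC
  have hNC : N ≤ C := fun n hn => ⟨h.le hn, mem_centralizer_iff.2 (by
    rintro _ ⟨y, hy, rfl⟩
    exact hQN y hy n hn)⟩
  have hCH : H ≤ normalizer (C : Set G) := by
    intro t ht
    have key : ∀ g ∈ H, ∀ c ∈ C, g * c * g⁻¹ ∈ C := by
      rintro g hg c ⟨hc1, hc2⟩
      refine ⟨‹P.Normal›.conj_mem c hc1 g, mem_centralizer_iff.2 ?_⟩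
      rintro _ ⟨y, hy, rfl⟩
      have h1 : g⁻¹ * (H.subtype y) * g ∈ Q' := hQmem _ (hQQ ⟨g, hg⟩ y hy)
      calc H.subtype y * (g * c * g⁻¹) = g * ((g⁻¹ * H.subtype y * g) * c) * g⁻¹ := by group
        _ = g * (c * (g⁻¹ * H.subtype y * g)) * g⁻¹ := by rw [mem_centralizer_iff.1 hc2 _ h1]
        _ = g * c * g⁻¹ * H.subtype y := by group
    exact Coprime.mem_normalizer_of_conj_mem (key t ht)
      (fun c hc => by simpa using key t⁻¹ (H.inv_mem ht) c hc)
  haveI : (N.subgroupOf P).Normal := Subgroup.normal_subgroupOf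
  haveI hC'n : (C.subgroupOf P).Normal := ⟨fun c hc x => by
    rw [mem_subgroupOf] at hc ⊢
    rw [show ((x * c * x⁻¹ : P) : G) = ((x : G) * c * (x : G)⁻¹ * (c : G)⁻¹) * c by push_cast; group]
    exact C.mul_mem (hNC (h.comm x x.2 c c.2)) hc⟩
  have hC'ab : ∀ a b : P ⧸ C.subgroupOf P, a * b = b * a := by
    intro a b
    obtain ⟨x, rfl⟩ := QuotientGroup.mk_surjective a
    obtain ⟨y, rfl⟩ := QuotientGroup.mk_surjective b
    rw [← QuotientGroup.mk_mul, ← QuotientGroup.mk_mul, QuotientGroup.eq, mem_subgroupOf]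
    refine hNC ?_
    have h1 := h.comm _ (P.inv_mem y.2) _ (P.inv_mem x.2)
    simpa [mul_assoc] using h1
  set D := ⁅P, Q'⁆ with hD
  have hDP : D ≤ P := commutator_le_left _ _
  have hcopQ : (Nat.card Q').Coprime (Nat.card P) :=
    (h.cop.symm.coprime_dvd_left (Subgroup.card_dvd_of_le (map_subtype_le _)))
  haveI : Group.IsSolvable P := inferInstance
  have hPD : D ⊔ C = P := Cfsg.Lib.Coprime.commutator_sup_centralizer Subgroup.le_normalizer_of_normal
    hcopQ (Or.inr inferInstance)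
  have hDC : ∀ d ∈ D, ∀ c ∈ C, c * d = d * c := by
    intro d hd c hc
    have hle : D ≤ centralizer ({c} : Set G) := by
      rw [hD, Subgroup.commutator_le]
      rintro x hx _ ⟨y, hy, rfl⟩
      rw [mem_centralizer_iff]
      intro c' hc'
      rw [Set.mem_singleton_iff.1 hc']
      set w := H.subtype y with hw
      have hcy : w * c = c * w := mem_centralizer_iff.1 hc.2 w (hQmem y hy)
      set n := c * x * c⁻¹ * x⁻¹ with hn
      have hnN : n ∈ N := h.comm c hc.1 x hx
      have e1 : c * ⁅x, w⁆ * c⁻¹ = n * (x * w * x⁻¹ * n⁻¹ * w⁻¹) := by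
        rw [hn, commutatorElement_def]
        calc c * (x * w * x⁻¹ * w⁻¹) * c⁻¹
            = (c * x) * w * x⁻¹ * (c * w)⁻¹ := by group
          _ = (c * x) * w * x⁻¹ * (w * c)⁻¹ := by rw [hcy]
          _ = (c * x * c⁻¹) * (c * w) * x⁻¹ * c⁻¹ * w⁻¹ := by group
          _ = (c * x * c⁻¹) * (w * c) * x⁻¹ * c⁻¹ * w⁻¹ := by rw [hcy]
          _ = _ := by group
      have e2 : ⁅x, w⁆ ∈ P := hDP (commutator_mem_commutator hx (hQmem y hy))
      have e3 : n * (x * w * x⁻¹ * n⁻¹ * w⁻¹) = ⁅x, w⁆ := by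
        have f1 : w * n = n * w := hQN y hy n hnN
        have f2 : n * (x * w * x⁻¹) = x * w * x⁻¹ * n := by
          calc n * (x * w * x⁻¹) = (n * ⁅x, w⁆) * w := by rw [commutatorElement_def]; group
            _ = (⁅x, w⁆ * n) * w := by rw [h.central n hnN _ e2]
            _ = ⁅x, w⁆ * (n * w) := by group
            _ = ⁅x, w⁆ * (w * n) := by rw [f1]
            _ = x * w * x⁻¹ * n := by rw [commutatorElement_def]; group
        rw [← mul_assoc, ← mul_assoc, f2, commutatorElement_def]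
        group
      exact mul_inv_eq_iff_eq_mul.1 (e1.trans e3)
    exact mem_centralizer_iff.1 (hle hd) c rfl
  obtain ⟨z, hzD, hzC⟩ : ∃ z ∈ D, z ∉ C := by
    by_contra hall
    push Not at hall
    refine hnd hpq hdq Q hQn hQa fun y hy x hx => ?_
    have hPC : P ≤ C := hPD ▸ sup_le hall le_rfl
    exact mem_centralizer_iff.1 (hPC hx).2 _ (hQmem y hy)
  -- commutation with `z`
  let φ : P →* N := MonoidHom.mk' (fun x => ⟨z * x * z⁻¹ * (x : G)⁻¹, h.comm z (hDP hzD) x x.2⟩)
    fun x y => Subtype.ext (by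
      set n := z * (y : G) * z⁻¹ * (y : G)⁻¹ with hn
      have hnN : n ∈ N := h.comm z (hDP hzD) y y.2
      show z * ((x : G) * y) * z⁻¹ * ((x : G) * y)⁻¹ = z * x * z⁻¹ * (x : G)⁻¹ * n
      calc z * ((x : G) * y) * z⁻¹ * ((x : G) * y)⁻¹
          = z * x * z⁻¹ * (n * (x : G)⁻¹) := by rw [hn]; group
        _ = z * x * z⁻¹ * ((x : G)⁻¹ * n) := by rw [h.central n hnN _ (P.inv_mem x.2)]
        _ = _ := by group)
  -- `Q` fixes the characters above a non-trivial central character
  have hQfix : ∀ lam : N →* ℂˣ, lam ≠ 1 → ∀ θ : Cfsg.IrrCharacter P, Over h.le lam (θ : P → ℂ) →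
      ∀ y ∈ (Q : Subgroup H), (y : G) ∈ inertia P (θ : P → ℂ) := by
    intro lam hlam θ ho y hy
    obtain ⟨S, hS, -, -⟩ := h.structure_of_dvd hnpq θ
      (dvd_mul_of_dvd_right (dvd_deg_of_over h.le h.isP h.der hlam θ ho) _)
    exact hS ((Subsingleton.elim Q S) ▸ hy)
  have hsurj : Function.Surjective φ := by
    by_contra hns
    letI : CommGroup N := { mul_comm := h.comm_N }
    have hne : φ.range ≠ ⊤ := fun ht => hns (MonoidHom.range_eq_top.1 ht)
    obtain ⟨n, hn⟩ := (SetLike.exists_not_mem_of_ne_top φ.range hne)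
    obtain ⟨f, hf⟩ := CommGroup.exists_apply_ne_one_of_hasEnoughRootsOfUnity (N ⧸ φ.range) ℂ
      (a := QuotientGroup.mk n) (fun h1 => hn ((QuotientGroup.eq_one_iff n).1 h1))
    set lam : N →* ℂˣ := f.comp (QuotientGroup.mk' φ.range) with hlam
    have hlam1 : lam ≠ 1 := fun h1 => hf (DFunLike.congr_fun h1 n)
    have hkill : ∀ x, lam (φ x) = 1 := fun x => by
      show f (QuotientGroup.mk (φ x)) = 1
      rw [(QuotientGroup.eq_one_iff (N := φ.range) (φ x)).2 (MonoidHom.mem_range.2 ⟨x, rfl⟩), map_one]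
    set K : Subgroup P := (lam.ker.map N.subtype).subgroupOf P with hK
    haveI : K.Normal := ⟨fun k hk x => by
      rw [hK, mem_subgroupOf] at hk ⊢
      obtain ⟨a, ha, hak⟩ := hk
      refine ⟨a, ha, ?_⟩
      have hka : (k : G) = a := hak.symm
      push_cast
      rw [hka, ← h.central a a.2 x x.2, mul_inv_cancel_right]
      rfl⟩
    let zP : P := ⟨z, hDP hzD⟩
    have hzK : zP ∈ centralMod K := mem_centralMod.2 fun x => by
      rw [hK, mem_subgroupOf]
      exact ⟨φ x, hkill x, rfl⟩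
    refine hzC ⟨hDP hzD, mem_centralizer_iff.2 ?_⟩
    rintro _ ⟨y, hy, rfl⟩
    let u : P := zP⁻¹ * MulAut.conjNormal (H.subtype y) zP
    have hu : ∀ θ : Cfsg.IrrCharacter P, Over h.le lam (θ : P → ℂ) →
        (θ : P → ℂ) u = (θ : P → ℂ) 1 := by
      intro θ ho
      have hKθ : ∀ k ∈ K, (θ : P → ℂ) k = (θ : P → ℂ) 1 := by
        intro k hk
        rw [hK, mem_subgroupOf] at hk
        obtain ⟨a, ha, hak⟩ := hk
        rw [show k = Subgroup.inclusion h.le a from Subtype.ext hak.symm, ho,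
          show lam a = 1 from ha, Units.val_one, mul_one]
      have h1 := scalar_mul θ.2 hKθ hzK u
      have h2 : (θ : P → ℂ) (zP * u) = (θ : P → ℂ) zP := by
        rw [show zP * u = MulAut.conjNormal (H.subtype y) zP from mul_inv_cancel_left _ _]
        have h3 := congrFun (mem_inertia.1 (hQfix lam hlam1 θ ho y hy)) zP
        rw [conjN_eq_comp] at h3
        exact h3
      rw [h2] at h1
      have h4 : (θ : P → ℂ) zP ≠ 0 := fun h0 => by
        have h5 := conj_mul_self θ.2 hKθ hzK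
        rw [h0, zero_mul] at h5
        exact IsIrrCharacter.apply_one_ne_zero θ.2 (by
          rw [irr_apply_one_eq_deg θ]; exact mul_self_eq_zero.1 h5.symm)
      exact (mul_left_cancel₀ h4 h1).symm
    obtain ⟨θ₀, ho₀, -⟩ := exists_invariant_over h.le h.central lam (⊥ : Subgroup G)
      (by rw [Subgroup.card_bot]; exact Nat.coprime_one_right _)
      (fun x hx => by rw [mem_bot.1 hx, map_one]; rfl)
    have huN : (u : G) ∈ N := by
      by_contra hun
      letI : CommGroup (P ⧸ N.subgroupOf P) :=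
        { mul_comm := fun a b => by
            obtain ⟨s, rfl⟩ := QuotientGroup.mk_surjective a
            obtain ⟨t, rfl⟩ := QuotientGroup.mk_surjective b
            rw [← QuotientGroup.mk_mul, ← QuotientGroup.mk_mul, QuotientGroup.eq, mem_subgroupOf]
            simpa [mul_assoc] using h.comm _ (P.inv_mem t.2) _ (P.inv_mem s.2) }
      obtain ⟨g, hg⟩ := CommGroup.exists_apply_ne_one_of_hasEnoughRootsOfUnity (P ⧸ N.subgroupOf P) ℂ
        (a := QuotientGroup.mk u) (fun h1 => hun (mem_subgroupOf.1 ((QuotientGroup.eq_one_iff u).1 h1)))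
      let μ : P →* ℂˣ := g.comp (QuotientGroup.mk' _)
      let θ₁ : Cfsg.IrrCharacter P := ⟨_, IsIrrCharacter.mul_linear θ₀.2 μ⟩
      have ho₁ : Over h.le lam (θ₁ : P → ℂ) := fun a => by
        show (μ (Subgroup.inclusion h.le a) : ℂ) * (θ₀ : P → ℂ) (Subgroup.inclusion h.le a) =
          ((μ 1 : ℂˣ) : ℂ) * (θ₀ : P → ℂ) 1 * (lam a : ℂ)
        have e : μ (Subgroup.inclusion h.le a) = 1 := by
          show g (QuotientGroup.mk (Subgroup.inclusion h.le a)) = 1
          rw [(QuotientGroup.eq_one_iff (Subgroup.inclusion h.le a)).2 (mem_subgroupOf.2 a.2), map_one]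
        rw [e, map_one, Units.val_one, one_mul, one_mul, ho₀]
      have h1 := hu θ₁ ho₁
      have h2 : ((μ u : ℂˣ) : ℂ) * (θ₀ : P → ℂ) u = ((μ 1 : ℂˣ) : ℂ) * (θ₀ : P → ℂ) 1 := h1
      rw [hu θ₀ ho₀, map_one, Units.val_one] at h2
      refine hg (Units.ext ?_)
      exact mul_right_cancel₀ (IsIrrCharacter.apply_one_ne_zero θ₀.2) h2
    refine commute_of_twist (u := (u : G)) (a := Nat.card Q') (b := Nat.card P) ?_ ?_ hcopQ
      (hQN y hy _ huN) ?_
    · exact orderOf_dvd_iff_pow_eq_one.1 (Subgroup.orderOf_dvd_natCard _ (hQmem y hy))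
    · exact orderOf_dvd_iff_pow_eq_one.1 (Subgroup.orderOf_dvd_natCard _ u.2)
    · show _ = z * ((zP⁻¹ * MulAut.conjNormal (H.subtype y) zP : P) : G)
      rw [Subgroup.coe_mul, Subgroup.coe_inv, MulAut.conjNormal_apply]
      show _ = z * (z⁻¹ * _)
      rw [mul_inv_cancel_left]
  -- the quotient by `C` is larger than `N`
  have hlarge : Nat.card N < (C.subgroupOf P).index := by
    have hker : C.subgroupOf P ≤ φ.ker := fun c hc => by
      rw [MonoidHom.mem_ker]
      apply Subtype.ext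
      show z * c * z⁻¹ * (c : G)⁻¹ = 1
      rw [← hDC z hzD c (mem_subgroupOf.1 hc)]
      group
    have hzker : (⟨z, hDP hzD⟩ : P) ∈ φ.ker := by
      rw [MonoidHom.mem_ker]
      apply Subtype.ext
      show z * z * z⁻¹ * z⁻¹ = 1
      group
    have h1 : φ.ker.index = Nat.card N := by
      rw [Subgroup.index_ker, MonoidHom.range_eq_top.2 hsurj, Subgroup.card_top]
    have h2 := relIndex_mul_index hker
    have h3 : (C.subgroupOf P).relIndex φ.ker ≠ 1 := fun h4 =>
      hzC (mem_subgroupOf.1 (relIndex_eq_one.1 h4 hzker))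
    rw [← h2, h1]
    have h5 : 0 < (C.subgroupOf P).relIndex φ.ker := Nat.pos_of_ne_zero (by
      intro h0
      rw [h0, zero_mul] at h2
      exact Subgroup.index_ne_zero_of_finite h2.symm)
    exact (lt_mul_iff_one_lt_left Nat.card_pos).2 (by omega)
  set E := killer (P := P) C with hE
  have hcardE : Nat.card E = (C.subgroupOf P).index := card_killer C hC'ab
  -- characters moved by `Q`
  have hmoved : ∀ μ : P →* ℂˣ, ¬ (Q : Subgroup H) ≤ stab (complAct P H) μ →
      ∃ S : Sylow r H, (S : Subgroup H) ≤ stab (complAct P H) μ ∧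
        stab (complAct P H) μ ≤ normalizer ((S : Subgroup H) : Set H) ∧
        IsMulCommutative (S : Subgroup H) := by
    intro μ hμ
    haveI := Fintype.ofFinite (inertia P (fun x => (μ x : ℂ)))
    obtain ⟨hPT, η, hη, hres⟩ := linear_extension h.split μ
    rw [stab_complAct] at hμ ⊢
    refine stab_structure h.split hnqr (isIrrCharacter_linear μ) hPT hη hres
      (dvd_mul_of_dvd_left ?_ _)
    rw [← h.comap_index hPT]
    by_contra hd
    obtain ⟨S, hS⟩ := SylowNorm.exists_sylow_le (p := q) _ hd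
    exact hμ (Subsingleton.elim Q S ▸ hS)
  have hEmoved : ∀ μ : P →* ℂˣ, μ ∈ E → μ ≠ 1 → ¬ (Q : Subgroup H) ≤ stab (complAct P H) μ := by
    intro μ hμ hμ1 hle
    refine hμ1 (MonoidHom.ext fun x => ?_)
    have hD' : D ≤ μ.ker.map P.subtype := by
      rw [hD, Subgroup.commutator_le]
      rintro a ha _ ⟨y, hy, rfl⟩
      refine ⟨⟨a, ha⟩ * MulAut.conjNormal (H.subtype y) (⟨a, ha⟩⁻¹ : P), ?_, ?_⟩
      · have h2 := DFunLike.congr_fun ((mem_stab _).1 (hle ((Q : Subgroup H).inv_mem hy))) (⟨a, ha⟩⁻¹ : P)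
        have h3 : μ (MulAut.conjNormal (H.subtype y) (⟨a, ha⟩⁻¹ : P)) = μ (⟨a, ha⟩⁻¹ : P) := by
          change μ (MulAut.conjNormal (H.subtype y⁻¹)⁻¹ _) = _ at h2
          rwa [map_inv H.subtype y, inv_inv] at h2
        rw [SetLike.mem_coe, MonoidHom.mem_ker, map_mul μ, h3, map_inv, mul_inv_cancel]
      · simp [commutatorElement_def, MulAut.conjNormal_apply, mul_assoc]
    have hC' : C ≤ μ.ker.map P.subtype := fun c hc => ⟨⟨c, hc.1⟩, hμ _ hc, rfl⟩
    obtain ⟨y, hy, hyx⟩ := sup_le hD' hC' (hPD.ge x.2)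
    rw [← Subtype.ext (show (y : G) = (x : G) from hyx)]
    exact hy
  have hcE : Cells (V := E) (killerAct C hCH) r := fun v hv => by
    obtain ⟨S, h1, h2, -⟩ := hmoved v.1 (hEmoved v.1 v.2 fun h0 => hv (Subtype.ext h0))
    rw [stab_killerAct]
    exact ⟨S, h1, h2⟩
  have hE1 : 1 < Nat.card E := by
    rw [hcardE]; exact lt_of_le_of_lt Nat.card_pos hlarge
  -- no normal Sylow `r`-subgroup
  have hRnn : ∀ S : Sylow r H, ¬ (S : Subgroup H).Normal := by
    intro S hSn
    haveI := Sylow.unique_of_normal S hSn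
    obtain ⟨ε, hε⟩ : ∃ ε : E, ε ≠ 1 := by
      by_contra hall
      push Not at hall
      haveI : Subsingleton E := ⟨fun a b => (hall a).trans (hall b).symm⟩
      rw [Nat.card_of_subsingleton (1 : E)] at hE1
      omega
    have hmv : ∀ μ : P →* ℂˣ, ¬ (Q : Subgroup H) ≤ stab (complAct P H) μ →
        (S : Subgroup H) ≤ stab (complAct P H) μ := fun μ hμ => by
      obtain ⟨T, hT, -, -⟩ := hmoved μ hμ
      rwa [Subsingleton.elim S T]
    have hall : ∀ μ : P →* ℂˣ, (S : Subgroup H) ≤ stab (complAct P H) μ := by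
      intro μ
      by_cases hμ : (Q : Subgroup H) ≤ stab (complAct P H) μ
      · have h1 := hEmoved ε.1 ε.2 (fun h0 => hε (Subtype.ext h0))
        have h2 := hmv ε.1 h1
        have h3 := hmv (μ * ε.1) fun hle => h1 fun t ht => by
          have a1 := (mem_stab _).1 (hle ht)
          rw [map_mul, (mem_stab _).1 (hμ ht)] at a1
          exact mul_left_cancel a1
        intro t ht
        have a1 := (mem_stab _).1 (h3 ht)
        rw [map_mul, (mem_stab _).1 (h2 ht)] at a1
        exact mul_right_cancel a1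
      · exact hmv μ hμ
    obtain ⟨μ₀, hμ₀⟩ : ∃ μ : P →* ℂˣ, ¬ (Q : Subgroup H) ≤ stab (complAct P H) μ :=
      ⟨ε.1, hEmoved ε.1 ε.2 fun h0 => hε (Subtype.ext h0)⟩
    obtain ⟨T, -, -, hTa⟩ := hmoved μ₀ hμ₀
    refine hnd hpr hdr S hSn (Subsingleton.elim T S ▸ hTa) fun y hy x hx => ?_
    let u : P := MulAut.conjNormal (H.subtype y) ⟨x, hx⟩ * (⟨x, hx⟩ : P)⁻¹
    have hu : (u : G) ∈ N := by
      refine h.commutator_le ⟨u, mem_commutator_of_forall fun μ => ?_, rfl⟩
      have h2 := DFunLike.congr_fun ((mem_stab _).1 (hall μ ((S : Subgroup H).inv_mem hy))) (⟨x, hx⟩ : P)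
      have h3 : μ (MulAut.conjNormal (H.subtype y) (⟨x, hx⟩ : P)) = μ (⟨x, hx⟩ : P) := by
        change μ (MulAut.conjNormal (H.subtype y⁻¹)⁻¹ _) = _ at h2
        rwa [map_inv H.subtype y, inv_inv] at h2
      rw [show u = MulAut.conjNormal (H.subtype y) ⟨x, hx⟩ * (⟨x, hx⟩ : P)⁻¹ from rfl, map_mul μ, h3,
        ← map_mul, mul_inv_cancel, map_one]
    refine commute_of_twist (u := (u : G)) (a := Nat.card H) (b := Nat.card P) ?_ ?_ h.cop.symm
      (commute_of_normal h.comm_N hcr S hSn hy hu) ?_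
    · exact orderOf_dvd_iff_pow_eq_one.1 (Subgroup.orderOf_dvd_natCard _ y.2)
    · exact orderOf_dvd_iff_pow_eq_one.1 (Subgroup.orderOf_dvd_natCard _ u.2)
    · rw [← h.central _ hu x hx]
      show _ = ((MulAut.conjNormal (H.subtype y) ⟨x, hx⟩ * (⟨x, hx⟩ : P)⁻¹ : P) : G) * x
      rw [Subgroup.coe_mul, Subgroup.coe_inv, MulAut.conjNormal_apply, inv_mul_cancel_right]
      rfl
  -- the count
  obtain ⟨S⟩ : Nonempty (Sylow r H) := inferInstance
  have hn : 1 < Nat.card (Sylow r H) := sylow_card_gt_one hRnn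
  have hnp : ¬ p ∣ Nat.card (Sylow r H) := by
    intro hd
    have h1 : p ∣ Nat.card H :=
      hd.trans ((S.card_dvd_index).trans (Subgroup.index_dvd_card _))
    have h2 : p ∣ Nat.card P := by
      rw [hm]
      refine dvd_pow_self p fun h0 => h.ne ?_
      rw [h0, pow_zero, Subgroup.card_eq_one] at hm
      exact le_bot_iff.1 (h.le.trans hm.le)
    exact hp.out.not_dvd_one (h.cop ▸ Nat.dvd_gcd h2 h1)
  have hNp : IsPGroup p N := h.isP.to_le h.le
  obtain ⟨l, hl⟩ := IsPGroup.iff_card.1 hNp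
  obtain ⟨v, -, hv⟩ := (Nat.dvd_prime_pow hp.out).1
    (show Nat.card E ∣ p ^ m by
      rw [← hm, hcardE]; exact Subgroup.index_dvd_card _)
  have hVcard : Nat.card (N →* ℂˣ) = p ^ l := (card_dual h.comm_N).trans hl
  obtain ⟨c, -, hc⟩ := (Nat.dvd_prime_pow hp.out).1
    (hVcard ▸ (fixed (V := N →* ℂˣ) (complAct N H) (S : Subgroup H)).card_subgroup_dvd_card)
  obtain ⟨d, -, hd⟩ := (Nat.dvd_prime_pow hp.out).1
    (hv ▸ (fixed (V := E) (killerAct C hCH) (S : Subgroup H)).card_subgroup_dvd_card)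
  have e1 := Cells.card_eq (V := N →* ℂˣ) (complAct N H) hcr S
  rw [hc, hVcard] at e1
  have e2 := hcE.card_eq (killerAct C hCH) S
  rw [hd, hv] at e2
  have hl0 : 0 < l := by
    refine Nat.pos_of_ne_zero fun h0 => h.ne ?_
    rw [h0, pow_zero, Subgroup.card_eq_one] at hl
    exact hl
  have hv0 : 0 < v := by
    refine Nat.pos_of_ne_zero fun h0 => ?_
    rw [hv, h0, pow_zero] at hE1
    omega
  have := exponent_unique hp.out hn hnp hl0 hv0 e1 e2
  rw [← hcardE, hv, hl, this] at hlarge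
  omega

/-- **The nonabelian Sylow case.** -/
theorem caseA [Group.IsSolvable G] {q r : ℕ} [hq : Fact q.Prime] [hr : Fact r.Prime]
    (hpq : p ≠ q) (hpr : p ≠ r) (hqr : q ≠ r) (P : Sylow p G) [hPn : (P : Subgroup G).Normal]
    (N : Subgroup G) [N.Normal] (hne : N ≠ ⊥) (hNP : N ≤ (P : Subgroup G))
    (hmin : ∀ M : Subgroup G, M.Normal → M ≤ N → M = ⊥ ∨ M = N)
    (hPab : ∀ a ∈ (P : Subgroup G), ∀ b ∈ (P : Subgroup G), a * b * a⁻¹ * b⁻¹ ∈ N)
    (hnpq : NoProd p q G) (hnpr : NoProd p r G) (hnqr : NoProd q r G)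
    (hdp : HasDeg p G) (hdq : HasDeg q G) (hdr : HasDeg r G) : False := by
  classical
  haveI := P.isPGroup'.isNilpotent
  have hcent : ∀ n ∈ N, ∀ x ∈ (P : Subgroup G), n * x = x * n := by
    rcases hmin (N ⊓ centralizer ((P : Subgroup G) : Set G)) (Subgroup.normal_inf_normal _ _)
      inf_le_left with hz | hz
    · exfalso
      haveI : (N.subgroupOf (P : Subgroup G)).Normal := Subgroup.normal_subgroupOf
      refine Cfsg.Lib.Coprime.inf_center_ne_bot (N.subgroupOf (P : Subgroup G)) ?_ ?_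
      · rw [Ne, subgroupOf_eq_bot, disjoint_iff, inf_eq_left.2 hNP]
        exact hne
      · rw [eq_bot_iff]
        rintro x ⟨hx1, hx2⟩
        rw [mem_bot]
        apply Subtype.ext
        have h1 : (x : G) ∈ N ⊓ centralizer ((P : Subgroup G) : Set G) :=
          ⟨hx1, mem_centralizer_iff.2 fun y hy => congrArg Subtype.val (mem_center_iff.1 hx2 ⟨y, hy⟩)⟩
        rw [hz, mem_bot] at h1
        exact h1
    · exact fun n hn x hx => (mem_centralizer_iff.1 (hz.ge hn).2 x hx).symm
  have hcop : (Nat.card (P : Subgroup G)).Coprime (P : Subgroup G).index :=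
    P.card_coprime_index
  have hder : N ≤ (_root_.commutator (P : Subgroup G)).map (P : Subgroup G).subtype := by
    have hle : (_root_.commutator (P : Subgroup G)).map (P : Subgroup G).subtype ≤ N := by
      rw [_root_.commutator_def, map_commutator, ← MonoidHom.range_eq_map, range_subtype,
        Subgroup.commutator_le]
      exact fun a ha b hb => hPab a ha b hb
    rcases hmin _ inferInstance hle with h1 | h1
    · exfalso
      refine not_hasDeg (P : Subgroup G) (fun a ha b hb => ?_) P.not_dvd_index hdp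
      have h2 : ⁅a, b⁆ ∈ (_root_.commutator (P : Subgroup G)).map (P : Subgroup G).subtype :=
        ⟨⁅⟨a, ha⟩, ⟨b, hb⟩⁆, commutator_mem_commutator (mem_top _) (mem_top _), rfl⟩
      rw [h1, mem_bot] at h2
      exact commutatorElement_eq_one_iff_mul_comm.1 h2
    · exact h1.ge
  obtain ⟨H, hH⟩ := exists_right_complement'_of_coprime (N := (P : Subgroup G)) hcop
  have hs : Split (P : Subgroup G) H := ⟨hH.sup_eq_top, hH.disjoint.eq_bot⟩
  have h : SetA p (P : Subgroup G) N H :=
    ⟨hs, P.isPGroup', hH.symm.index_eq_card ▸ hcop, hne, hNP, hcent, hPab, hder⟩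
  have hcq : Cells (V := N →* ℂˣ) (complAct N H) q := fun v hv => by
    obtain ⟨S, h1, h2, -⟩ := h.cells hnpq v hv
    exact ⟨S, h1, h2⟩
  have hcr : Cells (V := N →* ℂˣ) (complAct N H) r := fun v hv => by
    obtain ⟨S, h1, h2, -⟩ := h.cells hnpr v hv
    exact ⟨S, h1, h2⟩
  obtain ⟨v, hv⟩ : ∃ v : N →* ℂˣ, v ≠ 1 := by
    by_contra hall
    push Not at hall
    refine hne ((Subgroup.eq_bot_iff_forall N).2 fun x hx => ?_)
    exact congrArg Subtype.val (eq_one_of_forall h.comm_N (a := ⟨x, hx⟩) fun f => by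
      rw [hall f, MonoidHom.one_apply])
  obtain ⟨Sq, -, -, hSq⟩ := h.cells hnpq v hv
  obtain ⟨Sr, -, -, hSr⟩ := h.cells hnpr v hv
  obtain ⟨m, hm⟩ := IsPGroup.iff_card.1 (P.isPGroup'.to_le hNP)
  obtain ⟨f, hf1, -, -⟩ := hs.exists_proj
  rcases core (complAct N H) hp.out hqr (IsPGroup.of_card ((card_dual h.comm_N).trans hm))
      ⟨v, hv⟩ hcq hcr (fun S => isMulCommutative_of_one hSq S) (fun S => isMulCommutative_of_one hSr S)
      (hnqr.of_surjective f fun t => ⟨t, hf1 t⟩) with ⟨S, hS⟩ | ⟨S, hS⟩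
  · exact h.false_of_normal hpq hpr hnpq hnpr hnqr hdq hdr S hS (isMulCommutative_of_one hSq S)
  · exact h.false_of_normal hpr hpq hnpr hnpq hnqr.symm hdr hdq S hS (isMulCommutative_of_one hSr S)

end Cfsg.Lib.Palfy
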