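import Mathlib
import Cfsg.Agent.Blocks.Palfy.CaseA
import Cfsg.Agent.Chars.DegreeTools

/-!
# Pálfy's three primes theorem
-/

set_option autoImplicit false
set_option linter.unusedSectionVars false
set_option linter.style.haveILetI false

namespace Cfsg.Lib.Palfy

open Cfsg.Lib.Chars Cfsg.Lib.Blocks Subgroup
open scoped Pointwise

universe u

variable {G : Type u} [Group G] [Finite G]

/-- One of the primes has no degree in the quotient by a minimal normal subgroup. -/
theorem step [Group.IsSolvable G] {w p q r : ℕ} (hw : w.Prime) [hp : Fact p.Prime] [hq : Fact q.Prime]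
    [hr : Fact r.Prime] (hpq : p ≠ q) (hpr : p ≠ r) (hqr : q ≠ r) (N : Subgroup G) [N.Normal]
    (hne : N ≠ ⊥) (hab : ∀ a ∈ N, ∀ b ∈ N, a * b = b * a) (hNw : IsPGroup w N)
    (hmin : ∀ M : Subgroup G, M.Normal → M ≤ N → M = ⊥ ∨ M = N)
    (hnpq : NoProd p q G) (hnpr : NoProd p r G) (hnqr : NoProd q r G)
    (hdp : HasDeg p G) (hdq : HasDeg q G) (hdr : HasDeg r G) (hno : ¬ HasDeg p (G ⧸ N)) : False := by
  classical
  obtain ⟨P⟩ : Nonempty (Sylow p G) := inferInstance
  let Pb : Sylow p (G ⧸ N) := P.mapSurjective (QuotientGroup.mk'_surjective N)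
  haveI : Group.IsSolvable (G ⧸ N) := inferInstance
  obtain ⟨hn, hc⟩ := (ito_iff (p := p) (isPSolvable_of_solvable inferInstance) Pb).2
    fun χ h => hno ⟨χ, h⟩
  have hPn : ((P : Subgroup G) ⊔ N).Normal := by
    have h1 : ((P : Subgroup G) ⊔ N) = (Pb : Subgroup (G ⧸ N)).comap (QuotientGroup.mk' N) := by
      show _ = ((P : Subgroup G).map (QuotientGroup.mk' N)).comap (QuotientGroup.mk' N)
      rw [comap_map_eq, QuotientGroup.ker_mk']
    rw [h1]
    haveI := hn
    infer_instance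
  have hPab : ∀ a ∈ (P : Subgroup G), ∀ b ∈ (P : Subgroup G), a * b * a⁻¹ * b⁻¹ ∈ N := by
    intro a ha b hb
    rw [← QuotientGroup.eq_one_iff]
    have h1 := congrArg Subtype.val (hc.is_comm.comm ⟨QuotientGroup.mk' N a, mem_map_of_mem _ ha⟩
      ⟨QuotientGroup.mk' N b, mem_map_of_mem _ hb⟩)
    change QuotientGroup.mk' N a * QuotientGroup.mk' N b = QuotientGroup.mk' N b * QuotientGroup.mk' N a at h1
    show QuotientGroup.mk' N (a * b * a⁻¹ * b⁻¹) = 1
    rw [map_mul, map_mul, map_mul, map_inv, map_inv, h1]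
    group
  by_cases hpw : p = w
  · subst hpw
    have hle : N ≤ (P : Subgroup G) := by
      have h2 := P.is_maximal' (P.isPGroup'.to_sup_of_normal_right hNw) le_sup_left
      exact h2 ▸ le_sup_right
    haveI : (P : Subgroup G).Normal := by
      rwa [sup_eq_left.2 hle] at hPn
    exact caseA hpq hpr hqr P N hne hle hmin hPab hnpq hnpr hnqr hdp hdq hdr
  · exact caseB hw hpw hqr N hne hab hNw hmin P hPn hPab hnpq hnpr hnqr hdp hdq hdr

theorem three_primes : ∀ (n : ℕ) (G : Type u) [Group G] [Finite G] [Group.IsSolvable G],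
    Nat.card G = n → ∀ {p q r : ℕ}, p.Prime → q.Prime → r.Prime → p ≠ q → p ≠ r → q ≠ r →
      NoProd p q G → NoProd p r G → NoProd q r G → HasDeg p G → HasDeg q G → HasDeg r G → False := by
  intro n
  induction n using Nat.strong_induction_on with
  | _ n ih =>
    intro G _ _ _ hn p q r hp hq hr hpq hpr hqr hnpq hnpr hnqr hdp hdq hdr
    haveI := Fact.mk hp
    haveI := Fact.mk hq
    haveI := Fact.mk hr
    obtain ⟨χ, hχ⟩ := hdp
    have hbot : (⊤ : Subgroup G) ≠ ⊥ := by
      intro h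
      have h1 : Nat.card G = 1 := by rw [← Subgroup.card_top, h, Subgroup.card_bot]
      exact hp.not_dvd_one (h1 ▸ hχ.trans (IsIrrCharacter.deg_dvd χ.2))
    obtain ⟨N, -, hN, hne, hmin⟩ := Cfsg.Lib.Coprime.exists_minimal_normal inferInstance hbot
    haveI := hN
    obtain ⟨hab, w, hw, hNw, -⟩ := Cfsg.Lib.Coprime.minimal_normal_solvable inferInstance hne hmin
    have habel : ∀ a ∈ N, ∀ b ∈ N, a * b = b * a := fun a ha b hb =>
      congrArg Subtype.val (hab.is_comm.comm ⟨a, ha⟩ ⟨b, hb⟩)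
    have hlt : Nat.card (G ⧸ N) < n := by
      rw [← hn, N.card_eq_card_quotient_mul_card_subgroup]
      exact (lt_mul_iff_one_lt_right Nat.card_pos).2
        ((Subgroup.one_lt_card_iff_ne_bot N).2 hne)
    have hall : HasDeg p (G ⧸ N) → HasDeg q (G ⧸ N) → HasDeg r (G ⧸ N) → False := by
      intro a b c
      have hs := QuotientGroup.mk'_surjective N
      exact ih _ hlt (G ⧸ N) rfl hp hq hr hpq hpr hqr (hnpq.of_surjective _ hs)
        (hnpr.of_surjective _ hs) (hnqr.of_surjective _ hs) a b c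
    by_cases ha : HasDeg p (G ⧸ N)
    · by_cases hb : HasDeg q (G ⧸ N)
      · exact step hw hpr.symm hqr.symm hpq N hne habel hNw hmin hnpr.symm hnqr.symm hnpq hdr ⟨χ, hχ⟩
          hdq fun hc => hall ha hb hc
      · exact step hw hpq.symm hqr hpr N hne habel hNw hmin hnpq.symm hnqr hnpr hdq ⟨χ, hχ⟩ hdr hb
    · exact step hw hpq hpr hqr N hne habel hNw hmin hnpq hnpr hnqr ⟨χ, hχ⟩ hdq hdr ha

end Cfsg.Lib.Palfy
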